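import Cfsg.Agent.Lib.PGU3Char.Shape
import Cfsg.Agent.Lib.Unitary.SylowThree
import Cfsg.Agent.Lib.Unitary.Transvection

/-!
# The centraliser of an involution of `PGU₃(q)`, `q` even

* `vv` : the isotropic vector `(1,1,0)`; `tv` : its transvections
* `mem_center_iff` : the centre of `GU₃(q)` consists of the scalars
* `scalar_eq_one`, `eq_smul_of` : comparing transvections modulo scalars
* `shape_stab` : the shape of the stabiliser of `vv`
* `exists_shape` : the centraliser of an involution of `PGU₃(q)` has this shape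
-/

set_option autoImplicit false

namespace Cfsg.Agent.PGU3Char

open scoped Matrix
open Cfsg.Agent.Unitary

variable {F : Type*} [Field F] [Fintype F] {q : ℕ}

/-- The matrix of an element of `GU₃`. -/
abbrev mat (g : Cfsg.GU 3 F q) : Matrix (Fin 3) (Fin 3) F :=
  ((g : Matrix.GeneralLinearGroup (Fin 3) F) : Matrix (Fin 3) (Fin 3) F)

omit [Fintype F] in
theorem mat_mul (g g' : Cfsg.GU 3 F q) : mat (g * g') = mat g * mat g' := rfl

omit [Fintype F] in
theorem mat_injective : Function.Injective (mat : Cfsg.GU 3 F q → Matrix (Fin 3) (Fin 3) F) :=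
  fun _ _ h => Subtype.ext (Units.ext h)

omit [Fintype F] in
theorem scalar_mul (k : F) (M : Matrix (Fin 3) (Fin 3) F) : Matrix.scalar (Fin 3) k * M = k • M := by
  ext i j
  simp [Matrix.scalar_apply, Matrix.diagonal_mul]

omit [Fintype F] in
theorem scalar_mulVec (k : F) (x : Fin 3 → F) : Matrix.scalar (Fin 3) k *ᵥ x = k • x := by
  ext i
  simp [Matrix.scalar_apply, Matrix.mulVec_diagonal]

theorem mem_center_iff (hF : Fintype.card F = q ^ 2) (g : Cfsg.GU 3 F q) :
    g ∈ Subgroup.center (Cfsg.GU 3 F q) ↔ ∃ k : F, mat g = Matrix.scalar (Fin 3) k := by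
  constructor
  · intro hg
    refine scalar_of_commutes hF (by norm_num) _ fun B => ?_
    exact (congrArg mat (Subgroup.mem_center_iff.1 hg (suToGU 3 F q B))).symm
  · rintro ⟨k, hk⟩
    rw [Subgroup.mem_center_iff]
    refine fun b => mat_injective ?_
    rw [mat_mul, mat_mul, hk]
    exact (Matrix.scalar_commute k (fun r => mul_comm k r) (mat b)).eq.symm

/-- A nonzero vector orthogonal to two given ones. -/
theorem exists_orth (hF : Fintype.card F = q ^ 2) (w u : Fin 3 → F) :
    ∃ x : Fin 3 → F, x ≠ 0 ∧ Cfsg.hermForm 3 F q x w = 0 ∧ Cfsg.hermForm 3 F q x u = 0 := by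
  have H := hermForm_isHerm hF 3
  let f : (Fin 3 → F) →ₗ[F] F × F :=
    { toFun := fun x => (Cfsg.hermForm 3 F q x w, Cfsg.hermForm 3 F q x u)
      map_add' := fun x y => by simp [H.add_left]
      map_smul' := fun c x => by simp [H.smul_left] }
  have hker : LinearMap.ker f ≠ ⊥ := fun h => by
    have := LinearMap.finrank_le_finrank_of_injective (LinearMap.ker_eq_bot.1 h)
    simp at this
  obtain ⟨x, hx, hx0⟩ := Submodule.exists_mem_ne_zero_of_ne_bot hker
  have h := LinearMap.mem_ker.1 hx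
  exact ⟨x, hx0, congrArg Prod.fst h, congrArg Prod.snd h⟩

/-- Two transvections agree up to a scalar only if the scalar is `1`. -/
theorem scalar_eq_one (hF : Fintype.card F = q ^ 2) {w u : Fin 3 → F} {a b k : F}
    (h : Cfsg.unitaryTransvection 3 q w a = k • Cfsg.unitaryTransvection 3 q u b) : k = 1 := by
  obtain ⟨x, hx, hxw, hxu⟩ := exists_orth hF w u
  have h' := congrArg (fun M => M *ᵥ x) h
  simp only [Matrix.smul_mulVec, transvection_mulVec, hxw, hxu, mul_zero, zero_smul, add_zero] at h'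
  exact smul_left_injective F hx (by simpa using h'.symm)

theorem eq_smul_of (hF : Fintype.card F = q ^ 2) {w u : Fin 3 → F} {a : F} (hu : u ≠ 0)
    (ha : a ≠ 0)
    (h : ∀ x, Cfsg.hermForm 3 F q x w • w = (a * Cfsg.hermForm 3 F q x u) • u) :
    ∃ k : F, w = k • u ∧ k ^ (q + 1) = a := by
  have H := hermForm_isHerm hF 3
  obtain ⟨i, hi⟩ := Function.ne_iff.1 hu
  have hiq : u i ^ q ≠ 0 := pow_ne_zero _ hi
  set x₀ : Fin 3 → F := (u i ^ q)⁻¹ • Pi.single i 1
  have hx₀ : Cfsg.hermForm 3 F q x₀ u = 1 := by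
    rw [H.smul_left, hermForm_single_left, inv_mul_cancel₀ hiq]
  have h0 := h x₀
  rw [hx₀, mul_one] at h0
  have hs0 : Cfsg.hermForm 3 F q x₀ w ≠ 0 := fun e => by
    rw [e, zero_smul] at h0
    exact hu ((smul_eq_zero.1 h0.symm).resolve_left ha)
  set k := (Cfsg.hermForm 3 F q x₀ w)⁻¹ * a with hk
  have hw : w = k • u := by rw [hk, mul_smul, ← h0, inv_smul_smul₀ hs0]
  refine ⟨k, hw, ?_⟩
  rw [hw, H.smul_right, hx₀, mul_one, smul_smul] at h0
  have := smul_left_injective F hu h0
  rwa [← pow_succ] at this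

variable (F) in
/-- The isotropic vector `(1,1,0)`. -/
def vv : Fin 3 → F := ![1, 1, 0]

omit [Fintype F] in
theorem vv_ne_zero : vv F ≠ 0 := fun h => one_ne_zero (congrFun h 0)

variable (h2 : (2 : F) = 0)

include h2 in
theorem vv_isotropic : Cfsg.hermForm 3 F q (vv F) (vv F) = 0 := by
  simp [Cfsg.hermForm, vv, Fin.sum_univ_three]
  linear_combination h2

include h2 in
omit [Fintype F] in
theorem skew_of_fixed {b : F} (hb : b ^ q = b) : b + b ^ q = 0 := by
  rw [hb]; linear_combination b * h2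

/-- The transvection of the vector `(1,1,0)` in `GU₃`. -/
noncomputable def tv (hF : Fintype.card F = q ^ 2) (b : F) (hb : b ^ q = b) : Cfsg.GU 3 F q :=
  suToGU 3 F q (suTransvection hF (vv F) (vv_isotropic h2) b (skew_of_fixed h2 hb))

theorem mat_tv (hF : Fintype.card F = q ^ 2) (b : F) (hb : b ^ q = b) :
    mat (tv h2 hF b hb) = Cfsg.unitaryTransvection 3 q (vv F) b := rfl

include h2 in
theorem transvection_eq_mat3 (hF : Fintype.card F = q ^ 2) (b : F) :
    Cfsg.unitaryTransvection 3 q (vv F) b = mat3 q 0 b := by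
  ext i j
  rw [Cfsg.unitaryTransvection, Matrix.add_apply, Matrix.smul_apply, Matrix.vecMulVec_apply]
  fin_cases i <;> fin_cases j <;> simp [vv, mat3, zero_pow_q hF]

variable (F q) in
/-- The stabiliser of `(1,1,0)`. -/
def stab : Subgroup (Cfsg.GU 3 F q) where
  carrier := {g | mat g *ᵥ vv F = vv F}
  one_mem' := Matrix.one_mulVec _
  mul_mem' := fun {a b} (ha : mat a *ᵥ vv F = vv F) (hb : mat b *ᵥ vv F = vv F) => by
    show mat (a * b) *ᵥ vv F = vv F
    rw [mat_mul, ← Matrix.mulVec_mulVec, hb, ha]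
  inv_mem' := fun {a} (ha : mat a *ᵥ vv F = vv F) => by
    show mat a⁻¹ *ᵥ vv F = vv F
    conv_lhs => rw [← ha]
    rw [Matrix.mulVec_mulVec, ← mat_mul, inv_mul_cancel]
    exact Matrix.one_mulVec _

/-- The diagonal element `(1,1,u)`. -/
noncomputable def dg (hF : Fintype.card F = q ^ 2) (u : F) (hu : u ^ (q + 1) = 1) :
    Cfsg.GU 3 F q :=
  guOfUnitary hF (Matrix.diagonal ![1, 1, u]) (isUnitary_diagonal hF fun i => by
    fin_cases i <;> simp [hu])

theorem mat_dg (hF : Fintype.card F = q ^ 2) (u : F) (hu : u ^ (q + 1) = 1) :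
    mat (dg hF u hu) = !![1, 0, 0; 0, 1, 0; 0, 0, u] := by
  rw [dg, mat, guOfUnitary_val]
  ext i j
  fin_cases i <;> fin_cases j <;> simp

theorem dg_mem_stab (hF : Fintype.card F = q ^ 2) (u : F) (hu : u ^ (q + 1) = 1) :
    dg hF u hu ∈ stab F q := by
  show mat (dg hF u hu) *ᵥ vv F = vv F
  rw [mat_dg]
  ext i
  fin_cases i <;> simp [vv, Matrix.mulVec, dotProduct, Fin.sum_univ_three]

theorem mat_dg_pow (hF : Fintype.card F = q ^ 2) (u : F) (hu : u ^ (q + 1) = 1) (k : ℕ) :
    mat (dg hF u hu ^ k) = !![1, 0, 0; 0, 1, 0; 0, 0, u ^ k] := by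
  induction k with
  | zero =>
    rw [pow_zero, pow_zero]
    exact Matrix.one_fin_three
  | succ k ih =>
    rw [pow_succ, mat_mul, ih, mat_dg]
    ext i j
    fin_cases i <;> fin_cases j <;>
      simp [Matrix.mul_apply, Fin.sum_univ_three, pow_succ]

variable (hF : Fintype.card F = q ^ 2)

/-- The unipotent part. -/
noncomputable def uni : sylThree hF h2 →* Cfsg.GU 3 F q :=
  (suToGU 3 F q).comp (sylThree hF h2).subtype

theorem uni_injective : Function.Injective (uni h2 hF) :=
  suToGU_injective.comp Subtype.val_injective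

theorem mat_uni (g : sylThree hF h2) : mat (uni h2 hF g) = mat3 q (coordA g) (coordB g) :=
  (coe_eq g).1

theorem uni_mem_stab (g : sylThree hF h2) : uni h2 hF g ∈ stab F q := by
  show mat (uni h2 hF g) *ᵥ vv F = vv F
  rw [mat_uni]
  ext i
  fin_cases i <;> simp [vv, mat3, Matrix.mulVec, dotProduct, Fin.sum_univ_three]
  · linear_combination coordB g * h2
  · linear_combination coordB g * h2
  · linear_combination coordA g * h2

include h2 hF in
/-- The elements of the stabiliser in coordinates. -/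
theorem exists_coord {g : Cfsg.GU 3 F q} (hg : g ∈ stab F q) :
    ∃ (s : sylThree hF h2) (u : F) (hu : u ^ (q + 1) = 1), g = uni h2 hF s * dg hF u hu := by
  have hb := (isUnitary_iff_orthonormal hF (mat g)).1 g.2
  have hv : mat g *ᵥ vv F = vv F := hg
  have hrow : ∀ i, mat g i 0 + mat g i 1 = vv F i := fun i => by
    rw [← congrFun hv i]
    simp [vv, Matrix.mulVec, dotProduct, Fin.sum_univ_three]
  have h0 := hrow 0
  have h1 := hrow 1
  have hr2 := hrow 2
  simp only [vv, Matrix.cons_val_zero, Matrix.cons_val_one, Matrix.cons_val_two, Matrix.tail_cons,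
    Matrix.head_cons] at h0 h1 hr2
  have H := hermForm_isHerm hF 3
  have hcol : ∀ j, mat g *ᵥ Pi.single j 1 = fun i => mat g i j := fun j => by
    ext i; simp [Matrix.mulVec_single_one]
  -- `h(g eⱼ, v) = h(eⱼ, v)`
  have hpair : ∀ j, mat g 0 j + mat g 1 j = Cfsg.hermForm 3 F q (Pi.single j 1) (vv F) := fun j => by
    have h := GU_apply g (Pi.single j 1) (vv F)
    rw [hv, hcol] at h
    rw [← h]
    simp [Cfsg.hermForm, vv, Fin.sum_univ_three, zero_pow_q hF]
  have hp2 := hpair 2
  have hp0 := hpair 0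
  rw [hermForm_single_left] at hp2 hp0
  simp [vv, zero_pow_q hF] at hp2 hp0
  have norm : ∀ j, mat g 0 j ^ (q + 1) + mat g 1 j ^ (q + 1) + mat g 2 j ^ (q + 1) = 1 := fun j => by
    have h := hb.1 j
    simp [Cfsg.hermForm, Fin.sum_univ_three, Matrix.transpose_apply] at h
    simp only [pow_succ']
    linear_combination h
  have orth : mat g 0 2 * mat g 0 0 ^ q + mat g 1 2 * mat g 1 0 ^ q + mat g 2 2 * mat g 2 0 ^ q = 0 := by
    have h := hb.2 (show (2 : Fin 3) ≠ 0 by decide)
    simpa [Cfsg.hermForm, Fin.sum_univ_three, Matrix.transpose_apply] using h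
  set a' := mat g 0 2
  set b := mat g 1 0
  set u := mat g 2 2
  set w := mat g 2 0
  have e12 : mat g 1 2 = a' := by linear_combination hp2 - a' * h2
  have e00 : mat g 0 0 = 1 + b := by linear_combination hp0 - b * h2
  have e01 : mat g 0 1 = b := by linear_combination h0 - e00 - b * h2
  have e11 : mat g 1 1 = 1 + b := by linear_combination h1 - b * h2
  have e21 : mat g 2 1 = w := by linear_combination hr2 - w * h2
  have hu : u ^ (q + 1) = 1 := by
    have h := norm 2
    rw [e12] at h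
    linear_combination h - a' ^ (q + 1) * h2
  have horth : a' + u * w ^ q = 0 := by
    rw [e12, e00, add_pow_q hF, one_pow] at orth
    linear_combination orth - a' * b ^ q * h2
  have hnorm : b + b ^ q = w ^ (q + 1) := by
    have h := norm 0
    rw [e00] at h
    simp only [pow_succ', add_pow_q hF, one_pow] at h ⊢
    linear_combination h - (w * w ^ q + b * b ^ q) * h2
  obtain ⟨s, hsA, hsB⟩ := exists_mk (hF := hF) (h2 := h2) hnorm
  refine ⟨s, u, hu, mat_injective ?_⟩
  rw [mat_mul, mat_uni, mat_dg, hsA, hsB]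
  have ea : a' = w ^ q * u := by linear_combination horth - u * w ^ q * h2
  ext i j
  fin_cases i <;> fin_cases j <;>
    simp [mat3, Matrix.mul_apply, Fin.sum_univ_three, e12, e00, e01, e11, e21, ← ea] <;> rfl

theorem coord_unique {s s' : sylThree hF h2} {u u' : F} {hu : u ^ (q + 1) = 1}
    {hu' : u' ^ (q + 1) = 1} (h : uni h2 hF s * dg hF u hu = uni h2 hF s' * dg hF u' hu') :
    s = s' ∧ u = u' := by
  have h' := congrArg mat h
  rw [mat_mul, mat_mul, mat_uni, mat_uni, mat_dg, mat_dg] at h'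
  have e20 := congrArg (fun M : Matrix (Fin 3) (Fin 3) F => M 2 0) h'
  have e10 := congrArg (fun M : Matrix (Fin 3) (Fin 3) F => M 1 0) h'
  have e22 := congrArg (fun M : Matrix (Fin 3) (Fin 3) F => M 2 2) h'
  simp [mat3, Matrix.mul_apply, Fin.sum_univ_three] at e20 e10 e22
  exact ⟨ext' e20 e10, e22⟩

theorem dg_conj (u : F) (hu : u ^ (q + 1) = 1) (k : ℕ) (s t : sylThree hF h2)
    (hA : coordA t = u ^ k * coordA s) (hB : coordB t = coordB s) :
    dg hF u hu ^ k * uni h2 hF s = uni h2 hF t * dg hF u hu ^ k := by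
  refine mat_injective ?_
  rw [mat_mul, mat_mul, mat_uni, mat_uni, mat_dg_pow, hA, hB]
  have h1 : (u ^ k) ^ (q + 1) = 1 := by rw [← pow_mul, mul_comm, pow_mul, hu, one_pow]
  rw [pow_succ] at h1
  ext i j
  fin_cases i <;> fin_cases j <;>
    simp [mat3, Matrix.mul_apply, Fin.sum_univ_three, mul_pow] <;>
    linear_combination -(coordA s ^ q) * h1

include h2 in
theorem exists_conj (u : F) (hu : u ^ (q + 1) = 1) (k : ℕ) (s : sylThree hF h2) :
    ∃ t : sylThree hF h2, coordA t = u ^ k * coordA s ∧ coordB t = coordB s ∧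
      dg hF u hu ^ k * uni h2 hF s * (dg hF u hu ^ k)⁻¹ = uni h2 hF t := by
  obtain ⟨t, hA, hB⟩ := exists_mk (hF := hF) (h2 := h2) (a := u ^ k * coordA s) (b := coordB s) (by
    rw [(coe_eq s).2, mul_pow, ← pow_mul, mul_comm k, pow_mul, hu, one_pow, one_mul])
  exact ⟨t, hA, hB, by rw [dg_conj h2 hF u hu k s t hA hB, mul_inv_cancel_right]⟩

include h2 hF in
theorem shape_stab :
    ∃ (Z S : Subgroup (Cfsg.GU 3 F q)) (e : Cfsg.GU 3 F q), Shape q (stab F q) Z S e := by
  classical
  obtain ⟨ω, hω, hord⟩ := exists_norm_one_gen hF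
  have hw : ∀ u : F, u ^ (q + 1) = 1 → ∃ k : ℕ, ω ^ k = u := by
    intro u hu
    have hω0 : ω ≠ 0 := fun h => by simp [h] at hω
    obtain ⟨i, -, hi⟩ :=
      (IsPrimitiveRoot.iff_orderOf.2 hord).eq_pow_of_pow_eq_one hu
    exact ⟨i, hi⟩
  set Z := (Subgroup.center (sylThree hF h2)).map (uni h2 hF) with hZdef
  refine ⟨Z, (uni h2 hF).range, dg hF ω hω, ?_⟩
  have hZmem : ∀ s, uni h2 hF s ∈ Z ↔ coordA s = 0 := fun s => by
    rw [hZdef, Subgroup.mem_map_iff_mem (uni_injective h2 hF), Unitary.mem_center_iff]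
  have hdgu : ∀ u (hu : u ^ (q + 1) = 1), ∃ k : ℕ, dg hF u hu = dg hF ω hω ^ k := fun u hu => by
    obtain ⟨k, hk⟩ := hw u hu
    exact ⟨k, mat_injective (by rw [mat_dg, mat_dg_pow, hk])⟩
  have hsplit : ∀ g ∈ stab F q, ∃ s k, g = uni h2 hF s * dg hF ω hω ^ (k : ℕ) := fun g hg => by
    obtain ⟨s, u, hu, rfl⟩ := exists_coord h2 hF hg
    obtain ⟨k, hk⟩ := hdgu u hu
    exact ⟨s, k, by rw [hk]⟩
  constructor
  · rintro _ ⟨s, -, rfl⟩; exact ⟨s, rfl⟩
  · rintro _ ⟨s, rfl⟩; exact uni_mem_stab h2 hF s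
  · exact dg_mem_stab hF ω hω
  · have e : sylThree hF h2 × {u : F // u ^ (q + 1) = 1} ≃ stab F q :=
      Equiv.ofBijective (fun x => ⟨uni h2 hF x.1 * dg hF x.2.1 x.2.2,
        (stab F q).mul_mem (uni_mem_stab h2 hF x.1) (dg_mem_stab hF _ _)⟩) ⟨fun x y h => by
          obtain ⟨e1, e2⟩ := coord_unique h2 hF (congrArg Subtype.val h)
          exact Prod.ext e1 (Subtype.ext e2), fun g => by
          obtain ⟨s, u, hu, e⟩ := exists_coord h2 hF g.2
          exact ⟨(s, ⟨u, hu⟩), Subtype.ext e.symm⟩⟩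
    rw [← Nat.card_congr e, Nat.card_prod, card_sylThree,
      card_norm_fibre hF (one_pow q) one_ne_zero]
  · rw [← Nat.card_congr (MonoidHom.ofInjective (uni_injective h2 hF)).toEquiv, card_sylThree]
  · rw [← Nat.card_congr ((Subgroup.center (sylThree hF h2)).equivMapOfInjective _
      (uni_injective h2 hF)).toEquiv, card_center]
  · rintro c hc _ ⟨s, rfl⟩
    obtain ⟨s', k, rfl⟩ := hsplit c hc
    obtain ⟨t, -, -, ht⟩ := exists_conj h2 hF ω hω k s
    refine ⟨s' * t * s'⁻¹, ?_⟩
    rw [map_mul, map_mul, map_inv, ← ht]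
    group
  · rintro _ ⟨z, hz, rfl⟩ c hc
    obtain ⟨s', k, rfl⟩ := hsplit c hc
    refine Commute.mul_right (Commute.map ((Subgroup.mem_center_iff.1 hz s').symm) (uni h2 hF)) ?_
    obtain ⟨t, hA, hB, ht⟩ := exists_conj h2 hF ω hω k z
    have hA0 := (Unitary.mem_center_iff z).1 hz
    obtain rfl : t = z := ext' (by rw [hA, hA0, mul_zero]) hB
    exact (eq_mul_inv_iff_mul_eq.1 ht.symm)
  · rintro _ ⟨z, hz, rfl⟩
    rw [← map_mul, (sq_eq_one_iff z).2 ((Unitary.mem_center_iff z).1 hz), map_one]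
  · intro c hc hcc
    obtain ⟨s, u, hu, rfl⟩ := exists_coord h2 hF hc
    have h' := congrArg mat hcc
    rw [mat_mul, mat_mul, mat_uni, mat_dg, show mat (1 : Cfsg.GU 3 F q) = 1 from rfl] at h'
    have e22 := congrArg (fun M : Matrix (Fin 3) (Fin 3) F => M 2 2) h'
    simp [mat3, Matrix.mul_apply, Fin.sum_univ_three] at e22
    have hu1 : u = 1 := by
      have e22' : (u - 1) * (u - 1) = 0 := by
        linear_combination e22 - (u - 1 + coordA s * coordA s ^ q * u) * h2
      exact sub_eq_zero.1 (mul_self_eq_zero.1 e22')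
    have hd : dg hF u hu = 1 := mat_injective (by
      rw [mat_dg, hu1]; exact Matrix.one_fin_three.symm)
    rw [hd, mul_one, ← map_mul, ← map_one (uni h2 hF), (uni_injective h2 hF).eq_iff,
      Unitary.sq_eq_one_iff] at hcc
    rw [hd, mul_one]
    exact (hZmem s).2 hcc
  · rintro _ ⟨s, rfl⟩
    rw [← map_mul]
    exact (hZmem _).2 (coord_sq s).1
  · refine mat_injective ?_
    rw [mat_dg_pow, hω]
    exact Matrix.one_fin_three.symm
  · rintro k _ ⟨s, rfl⟩ hsZ hmz
    rw [hZmem] at hsZ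
    obtain ⟨t, hA, -, ht⟩ := exists_conj h2 hF ω hω k s
    rw [ht, ← map_inv, ← map_mul, hZmem, (coord_mul _ _).1] at hmz
    have hinv : coordA s⁻¹ = coordA s := by
      have h := (coord_mul s s⁻¹).1
      rw [mul_inv_cancel, coord_one.1] at h
      linear_combination -h - coordA s * h2
    rw [hA, hinv] at hmz
    have h1 : (ω ^ k - 1) * coordA s = 0 := by linear_combination hmz - coordA s * h2
    rw [← hord]
    exact orderOf_dvd_of_pow_eq_one (sub_eq_zero.1 ((mul_eq_zero.1 h1).resolve_right hsZ))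

theorem orderOf_mk_tv (b : F) (hb : b ^ q = b) (hb0 : b ≠ 0) :
    orderOf (QuotientGroup.mk (tv h2 hF b hb) :
      Cfsg.GU 3 F q ⧸ Subgroup.center (Cfsg.GU 3 F q)) = 2 := by
  haveI : Fact (Nat.Prime 2) := ⟨Nat.prime_two⟩
  refine orderOf_eq_prime ?_ fun h => ?_
  · rw [← QuotientGroup.mk_pow, sq]
    have : tv h2 hF b hb * tv h2 hF b hb = 1 := mat_injective (by
      rw [mat_mul, mat_tv, transvection_mul _ (vv_isotropic h2),
        show b + b = 0 by linear_combination b * h2, transvection_zero]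
      rfl)
    rw [this]
    rfl
  · obtain ⟨k, hk⟩ := (mem_center_iff hF _).1 ((QuotientGroup.eq_one_iff _).1 h)
    rw [mat_tv, transvection_eq_mat3 h2 hF] at hk
    have := congrArg (fun M : Matrix (Fin 3) (Fin 3) F => M 0 1) hk
    simp [mat3, Matrix.scalar_apply] at this
    exact hb0 this

include h2 hF in
/-- The centraliser of an involution of `PGU₃(q)` has this shape. -/
theorem exists_shape :
    ∃ (y : Cfsg.GU 3 F q ⧸ Subgroup.center (Cfsg.GU 3 F q))
      (Z S : Subgroup (Cfsg.GU 3 F q ⧸ Subgroup.center (Cfsg.GU 3 F q)))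
      (e : Cfsg.GU 3 F q ⧸ Subgroup.center (Cfsg.GU 3 F q)),
      orderOf y = 2 ∧ Shape q (Subgroup.centralizer {y}) Z S e := by
  obtain ⟨Z, S, e, hsh⟩ := shape_stab h2 hF
  set τ := tv h2 hF 1 (one_pow q) with hτ
  set π := QuotientGroup.mk' (Subgroup.center (Cfsg.GU 3 F q)) with hπ
  have hord := orderOf_mk_tv h2 hF 1 (one_pow q) one_ne_zero
  refine ⟨π τ, ?_⟩
  have hcomm : ∀ g ∈ stab F q, Commute g τ := fun g hg => mat_injective (by
    rw [mat_mul, mat_mul, mat_tv, transvection_conj g, show mat g *ᵥ vv F = vv F from hg])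
  have hrange : (stab F q).map π = Subgroup.centralizer {π τ} := by
    ext p
    obtain ⟨g, rfl⟩ := QuotientGroup.mk'_surjective (Subgroup.center (Cfsg.GU 3 F q)) p
    rw [Subgroup.mem_centralizer_singleton_iff]
    constructor
    · rintro ⟨g', hg', e⟩
      rw [← e]
      exact ((hcomm g' hg').map π).eq
    · intro h
      rw [← map_mul, ← map_mul] at h
      obtain ⟨c, hc, e⟩ : ∃ c ∈ Subgroup.center (Cfsg.GU 3 F q), τ * g * c = g * τ :=
        (QuotientGroup.mk'_eq_mk' _).1 h.symm
      obtain ⟨k, hk⟩ := (mem_center_iff hF _).1 hc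
      have e' := congrArg mat e
      rw [mat_mul, mat_mul, mat_mul, hk, mat_tv, transvection_conj g,
        ← (Matrix.scalar_commute k (fun r => mul_comm k r) _).eq, scalar_mul,
        ← Matrix.smul_mul] at e'
      have e2 := congrArg (fun M => M * mat g⁻¹) e'
      simp only [mul_assoc, ← mat_mul, mul_inv_cancel] at e2
      rw [show mat (1 : Cfsg.GU 3 F q) = 1 from rfl, mul_one, mul_one] at e2
      have hk1 := scalar_eq_one hF e2.symm
      rw [hk1, one_smul] at e2
      obtain ⟨l, hl, hlq⟩ := eq_smul_of hF (vv_ne_zero (F := F)) one_ne_zero (w := mat g *ᵥ vv F)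
        fun x => by
          have h3 := congrArg (fun M => M *ᵥ x) e2
          simp only [transvection_mulVec, add_right_inj, one_mul] at h3
          rw [one_mul, h3]
      have hl0 : l ≠ 0 := fun e => by simp [e] at hlq
      let z : Cfsg.GU 3 F q := guOfUnitary hF (Matrix.scalar (Fin 3) l⁻¹)
        (isUnitary_diagonal hF fun _ => inv_pow_succ l hlq)
      have hz : z ∈ Subgroup.center (Cfsg.GU 3 F q) := (mem_center_iff hF z).2 ⟨l⁻¹, rfl⟩
      refine ⟨g * z, ?_, ?_⟩
      · show mat (g * z) *ᵥ vv F = vv F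
        rw [mat_mul, ← Matrix.mulVec_mulVec, show mat z = Matrix.scalar (Fin 3) l⁻¹ from rfl,
          scalar_mulVec, Matrix.mulVec_smul, hl, inv_smul_smul₀ hl0]
      · rw [map_mul, show π z = 1 from (QuotientGroup.eq_one_iff z).2 hz, mul_one]
  have hinj : Function.Injective (π.comp (stab F q).subtype) := by
    rw [injective_iff_map_eq_one]
    intro g hg
    obtain ⟨k, hk⟩ := (mem_center_iff hF _).1 ((QuotientGroup.eq_one_iff _).1 hg)
    have hv : mat (g : Cfsg.GU 3 F q) *ᵥ vv F = vv F := g.2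
    rw [show mat (g : Cfsg.GU 3 F q) = _ from hk, scalar_mulVec] at hv
    have hk1 : k = 1 := smul_left_injective F (vv_ne_zero (F := F)) (hv.trans (one_smul F _).symm)
    rw [hk1, map_one] at hk
    exact Subtype.ext (mat_injective hk)
  obtain ⟨Z', S', e', h'⟩ := hsh.exists_map
    (((MonoidHom.ofInjective hinj).trans (MulEquiv.subgroupCongr (by
      rw [MonoidHom.range_comp, Subgroup.range_subtype, hrange]))))
  exact ⟨Z', S', e', hord, h'⟩

end Cfsg.Agent.PGU3Char
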