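import Cfsg.Agent.Lib.PGU3Char.RankOne
import Cfsg.Agent.Lib.PGU3Char.Model
import Cfsg.Agent.Lib.AutPSU.Count

/-!
# The identification

* `conjHom` : `GU₃ → Aut PSU₃`, with kernel the centre
* `mem_range_of_fix` : an automorphism of odd order fixing the transvections of a point is projective
* `exists_iso` : the characterisation of `PGU₃(q)` by involution centralisers
-/

set_option autoImplicit false
set_option linter.style.haveILetI false
set_option linter.unusedSectionVars false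

namespace Cfsg.Agent.PGU3Char

open Cfsg
open scoped Matrix
open Cfsg.Agent.Unitary Cfsg.Agent.AutPSU
open Cfsg.Agent.FieldAut (suMat suMat_injective suMat_mem conj_mem_suMat keep_gal_su galGL
  galGL_GU galGL_apply_coe indAut conjAut conjAut_apply conjAut_eq_one_iff suRigid scal scal_coe keep)

section

variable {F : Type*} [Field F] [Fintype F] {q : ℕ}

/-- Conjugation by unitary matrices. -/
noncomputable def conjHom3 (F : Type*) [Field F] (q : ℕ) :
    Cfsg.GU 3 F q →* MulAut (Cfsg.PSU 3 F q) :=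
  conjAut suMat_injective (Cfsg.GU 3 F q) fun _ => conj_mem_suMat

theorem ker_conjHom3 (hF : Fintype.card F = q ^ 2) :
    (conjHom3 F q).ker = Subgroup.center (Cfsg.GU 3 F q) := by
  ext g
  rw [MonoidHom.mem_ker, conjHom3, conjAut_apply,
    conjAut_eq_one_iff (suRigid hF (by norm_num)) (conj_mem_suMat g.2)]
  constructor
  · rintro ⟨a, ha⟩
    refine (mem_center_iff hF g).2 ⟨a, ?_⟩
    show (g : GL (Fin 3) F).1 = _
    rw [← ha]
    rfl
  · intro hg
    obtain ⟨k, hk⟩ := (mem_center_iff hF g).1 hg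
    have hk0 : k ≠ 0 := fun h => by
      rw [h, map_zero] at hk
      exact (g : GL (Fin 3) F).isUnit.ne_zero hk
    exact ⟨Units.mk0 k hk0, Units.ext hk.symm⟩

theorem card_center (hF : Fintype.card F = q ^ 2) :
    Nat.card (Subgroup.center (Cfsg.GU 3 F q)) = q + 1 := by
  rw [← card_norm_fibre hF (one_pow q) one_ne_zero]
  symm
  refine Nat.card_congr (Equiv.ofBijective (fun a => ⟨guOfUnitary hF (Matrix.scalar (Fin 3) a.1)
    (isUnitary_diagonal hF fun _ => a.2), (mem_center_iff hF _).2 ⟨a.1, rfl⟩⟩) ⟨fun a b h => ?_,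
      fun g => ?_⟩)
  · have h' := congrArg (fun x : Subgroup.center (Cfsg.GU 3 F q) => mat x.1 0 0) h
    simp [mat, Matrix.scalar_apply] at h'
    exact Subtype.ext h'
  · obtain ⟨k, hk⟩ := (mem_center_iff hF g.1).1 g.2
    have h1 := GU_apply g.1 (Pi.single 0 1) (Pi.single 0 1)
    have H := hermForm_isHerm hF 3
    rw [show (((g.1 : Cfsg.GU 3 F q) : GL (Fin 3) F) : Matrix (Fin 3) (Fin 3) F) = _ from hk,
      scalar_mulVec, H.smul_left, H.smul_right, (single_orthonormal hF 3).apply, if_pos rfl,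
      mul_one, ← pow_succ'] at h1
    exact ⟨⟨k, h1⟩, Subtype.ext (mat_injective hk.symm)⟩

theorem card_quot (hF : Fintype.card F = q ^ 2) :
    Nat.card (Cfsg.GU 3 F q ⧸ Subgroup.center (Cfsg.GU 3 F q)) =
      (q ^ 3 + 1) * ((q - 1) * (q ^ 3 * (q + 1))) := by
  have h := Subgroup.card_eq_card_quotient_mul_card_subgroup (Subgroup.center (Cfsg.GU 3 F q))
  rw [card_center hF, card_GU hF] at h
  simp only [Finset.prod_range_succ, Finset.prod_range_zero] at h
  norm_num [Nat.even_iff] at h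
  refine Nat.eq_of_mul_eq_mul_right (Nat.succ_pos q) (h.symm.trans ?_)
  have : q ^ 2 - 1 = (q + 1) * (q - 1) := by simpa using Nat.sq_sub_sq q 1
  rw [this, Nat.succ_eq_add_one]
  ring

/-- An automorphism of order dividing `q + 1` which fixes all transvections of the point `(1,1,0)`
is induced by a unitary matrix. -/
theorem mem_range_of_fix (hF : Fintype.card F = q ^ 2) (h2 : (2 : F) = 0) (hq : 2 < q) (hq2 : Even q)
    {α : MulAut (Cfsg.PSU 3 F q)} (hord : α ^ (q + 1) = 1)
    (hfix : ∀ (b : F) (hb : b + b ^ q = 0),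
      α (cl 3 F q (suTransvection hF (vv F) (vv_isotropic h2) b hb)) =
        cl 3 F q (suTransvection hF (vv F) (vv_isotropic h2) b hb)) :
    α ∈ (conjHom3 F q).range := by
  obtain ⟨X, hX, σ, rfl⟩ := exists_factor hF le_rfl (fun h => by omega) α
  set w := twistVec X σ (vv F) with hw
  have key : ∀ (b : F) (hb : b + b ^ q = 0) (y : Fin 3 → F),
      (σ b * Cfsg.hermForm 3 F q y w) • w = (b * Cfsg.hermForm 3 F q y (vv F)) • vv F := by
    intro b hb
    obtain ⟨g', he, hact⟩ := twist_cl hX σ (suTransvection hF (vv F) (vv_isotropic h2) b hb)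
    rw [hfix b hb] at he
    obtain ⟨c, hc, hgc⟩ := (QuotientGroup.mk'_eq_mk' _).1 he.symm
    obtain ⟨k, hk⟩ := (mem_center_SU_iff hF (by norm_num) c).1 hc
    have hmat : ∀ x : Fin 3 → F, suAct g' (twistVec X σ x) =
        k • (twistVec X σ x + (b * Cfsg.hermForm 3 F q (twistVec X σ x) (vv F)) • vv F) := by
      intro x
      rw [← hgc, suAct, Subgroup.coe_mul, Matrix.SpecialLinearGroup.coe_mul, hk,
        ← (Matrix.scalar_commute k (fun r => mul_comm k r) _).eq, scalar_mul, Matrix.smul_mulVec]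
      congr 1
      exact transvection_mulVec (vv F) _ b
    have hk1 : k = 1 := by
      obtain ⟨y, hy0, hyw, hyv⟩ := exists_orth hF w (vv F)
      obtain ⟨x, rfl⟩ := twistVec_surjective X σ y
      have h := hact x
      rw [hmat, hyv, mul_zero, zero_smul, add_zero, suAct_suTransvection] at h
      have hxv : Cfsg.hermForm 3 F q x (vv F) = 0 := σ.injective (by
        rw [← twistVec_herm hX, map_zero]; exact hyw)
      rw [hxv, mul_zero, zero_smul, add_zero] at h
      exact smul_left_injective F hy0 (h.trans (one_smul F _).symm)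
    intro y
    obtain ⟨x, rfl⟩ := twistVec_surjective X σ y
    have h := hact x
    rw [hmat, hk1, one_smul, suAct_suTransvection, twistVec_add, twistVec_smul, add_right_inj,
      map_mul, ← twistVec_herm hX] at h
    exact h.symm
  have h11 : (1 : F) + 1 ^ q = 0 := by rw [one_pow]; linear_combination h2
  obtain ⟨k, hk, hkq⟩ := eq_smul_of hF (vv_ne_zero (F := F)) one_ne_zero (w := w) fun y => by
    have := key 1 h11 y
    rwa [map_one, one_mul] at this
  -- `σ` fixes the subfield of order `q`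
  have hfixed : ∀ b : F, b ^ q = b → σ b = b := by
    intro b hb
    obtain ⟨i, hi⟩ := Function.ne_iff.1 (vv_ne_zero (F := F))
    have H := hermForm_isHerm hF 3
    have h := key b (skew_of_fixed h2 hb) (Pi.single i 1)
    rw [hk, H.smul_right, smul_smul, hermForm_single_left] at h
    have h' := smul_left_injective F (vv_ne_zero (F := F)) h
    refine mul_right_cancel₀ (pow_ne_zero q hi : vv F i ^ q ≠ 0) ?_
    rw [pow_succ] at hkq
    linear_combination h' - σ b * vv F i ^ q * hkq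
  -- hence `σ ² = 1`
  have hσ : σ * σ = 1 := by
    refine RingEquiv.ext fun x => ?_
    show σ (σ x) = x
    have h1 : (x + x ^ q) ^ q = x + x ^ q := by
      rw [add_pow_q hF, pow_q_pow_q hF, add_comm]
    have h1' := hfixed _ h1
    have h3 : (x ^ (q + 1)) ^ q = x ^ (q + 1) := pow_q_succ_fixed hF x
    have h3' := hfixed _ h3
    rw [map_add, map_pow] at h1'
    rw [map_pow, pow_succ, pow_succ] at h3'
    have e : (σ x - x) * (σ x - x ^ q) = 0 := by
      linear_combination (-(σ x) * h1') + h3' + (σ x * σ x - x * σ x - σ x * x ^ q + x * x ^ q) * h2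
    rcases mul_eq_zero.1 e with h | h
    · rw [sub_eq_zero] at h; rw [h, h]
    · rw [sub_eq_zero] at h; rw [h, map_pow, h, pow_q_pow_q hF]
  obtain ⟨l, hl⟩ := hq2
  have hsq : twistAut hX σ * twistAut hX σ =
      conjHom3 F q (⟨X, hX⟩ * ⟨galGL σ X, galGL_GU σ hX⟩) := by
    rw [twistAut, ← map_mul, conjHom3, conjAut_apply]
    congr 1
    refine Subtype.ext (MulEquiv.ext fun g => Units.ext ?_)
    show ((MulAut.conj X * galGL σ : MulAut (GL (Fin 3) F))
        ((MulAut.conj X * galGL σ : MulAut (GL (Fin 3) F)) g)).1 =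
      (MulAut.conj (X * galGL σ X) g).1
    have hg : galGL σ (galGL σ g) = g := by
      rw [← MulAut.mul_apply, ← map_mul, hσ, map_one, MulAut.one_apply]
    simp only [MulAut.mul_apply, MulAut.conj_apply, map_mul, map_inv, hg]
  refine ⟨(⟨X, hX⟩ * ⟨galGL σ X, galGL_GU σ hX⟩) ^ (l + 1), ?_⟩
  rw [map_pow, ← hsq, ← sq, ← pow_mul, show 2 * (l + 1) = q + 1 + 1 by omega, pow_succ, hord, one_mul]

end

/-- The hypotheses of the characterisation give a context at each involution. -/
theorem exists_ctx {G : Type*} [Group G] [Finite G] {q : ℕ} (h4 : 4 ≤ q) (hq : ∃ n, q = 2 ^ n)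
    (hsh : ∀ x : G, orderOf x = 2 →
      ∃ (Z S : Subgroup G) (e : G), Shape q (Subgroup.centralizer {x}) Z S e)
    (hS : ∀ P : Sylow 2 G, ¬ (P : Subgroup G).Normal) (x : G) (hx : orderOf x = 2) :
    ∃ (Z S : Subgroup G) (e : G), Ctx q x Z S e := by
  obtain ⟨Z, S, e, h⟩ := hsh x hx
  exact ⟨Z, S, e, h4, hq, hsh, hS, hx, h⟩

open Involution in
theorem exists_iso {G : Type*} [Group G] [Finite G] {q : ℕ} {z : G} {Z S : Subgroup G} {e : G}
    (X : Ctx q z Z S e) :
    ∃ (F : Type) (_ : Field F) (_ : Fintype F), Fintype.card F = q ^ 2 ∧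
      Nonempty (G ≃* (Cfsg.GU 3 F q ⧸ Subgroup.center (Cfsg.GU 3 F q))) := by
  obtain ⟨L, hL, hLodd, F, _, _, n, hn, hF, hqn, ⟨φ⟩⟩ := X.exists_L
  subst hqn
  refine ⟨F, inferInstance, inferInstance, hF, ?_⟩
  haveI := hL
  have h2 : (2 : F) = 0 := by
    obtain ⟨p, hp⟩ := CharP.exists F
    obtain ⟨k, hpp, hk⟩ := FiniteField.card F p
    have : p = 2 := by
      refine (Nat.prime_dvd_prime_iff_eq hpp Nat.prime_two).1
        (hpp.dvd_of_dvd_pow (n := n * 2) ?_)
      rw [pow_mul, ← hF, hk]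
      exact dvd_pow_self p k.pos.ne'
    subst this
    exact_mod_cast CharP.cast_eq_zero F 2
  have hLel : ∀ g : G, ∀ m : ℕ, g ^ 2 ^ m = 1 → g ∈ L := by
    intro g m hg
    rw [← QuotientGroup.eq_one_iff, ← orderOf_eq_one_iff]
    refine Nat.eq_one_of_dvd_coprimes (Nat.Coprime.pow_left m (Nat.prime_two.coprime_iff_not_dvd.2
      (by rw [Nat.two_dvd_ne_zero]; exact Nat.odd_iff.1 hLodd)) : Nat.Coprime (2 ^ m) L.index) ?_
      (orderOf_dvd_natCard _)
    rw [orderOf_dvd_iff_pow_eq_one, ← QuotientGroup.mk_pow, hg]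
    rfl
  have hinv : ∀ s : G, orderOf s = 2 → s ∈ L := fun s hs =>
    hLel s 1 (by rw [pow_one, ← hs]; exact pow_orderOf_eq_one s)
  -- the homomorphism to the automorphism group
  let Ψ : G →* MulAut (Cfsg.PSU 3 F (2 ^ n)) := (MulAut.congr φ).toMonoidHom.comp MulAut.conjNormal
  have hΨ : ∀ (g : G) (l : L), Ψ g (φ l) = φ (MulAut.conjNormal g l) := fun g l => by
    show φ (MulAut.conjNormal g (φ.symm (φ l))) = _
    rw [φ.symm_apply_apply]
  have hΨinj : Function.Injective Ψ := by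
    rw [injective_iff_map_eq_one]
    intro g hg
    haveI := X.faithful
    have P := Bender.pointClass_of_stronglyEmbedded X.isSE
    refine FaithfulSMul.eq_of_smul_eq_smul (α := G ⧸ Subgroup.normalizer (Z : Set G)) fun x => ?_
    obtain ⟨s, hs, hsx⟩ := P.exists_at x
    have h1 := hΨ g ⟨s, hinv s hs⟩
    rw [hg, MulAut.one_apply] at h1
    have h3 : g * s * g⁻¹ = s := (congrArg Subtype.val (φ.injective h1)).symm
    rw [one_smul, ← hsx, ← P.pt_conj g hs, h3]
  -- the involution matching the transvection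
  have hsk : ∀ (b : F) (hb : b + b ^ 2 ^ n = 0),
      suTransvection hF (vv F) (vv_isotropic h2) b hb * suTransvection hF (vv F) (vv_isotropic h2) b hb
        = 1 := fun b hb => Subtype.ext (Subtype.ext (by
      show Cfsg.unitaryTransvection 3 (2 ^ n) (vv F) b * Cfsg.unitaryTransvection 3 (2 ^ n) (vv F) b = 1
      rw [transvection_mul _ (vv_isotropic h2), show b + b = 0 by linear_combination b * h2,
        transvection_zero]))
  have hcommT : ∀ (b c : F) (hb : b + b ^ 2 ^ n = 0) (hc : c + c ^ 2 ^ n = 0),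
      Commute (suTransvection hF (vv F) (vv_isotropic h2) b hb)
        (suTransvection hF (vv F) (vv_isotropic h2) c hc) := fun b c hb hc =>
    Subtype.ext (Subtype.ext (by
      show Cfsg.unitaryTransvection 3 (2 ^ n) (vv F) b * Cfsg.unitaryTransvection 3 (2 ^ n) (vv F) c =
        Cfsg.unitaryTransvection 3 (2 ^ n) (vv F) c * Cfsg.unitaryTransvection 3 (2 ^ n) (vv F) b
      rw [transvection_mul _ (vv_isotropic h2), transvection_mul _ (vv_isotropic h2), add_comm]))
  let T : ∀ b : F, b + b ^ 2 ^ n = 0 → G := fun b hb =>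
    (φ.symm (cl 3 F (2 ^ n) (suTransvection hF (vv F) (vv_isotropic h2) b hb)) : L)
  have hTsq : ∀ b hb, T b hb * T b hb = 1 := fun b hb => by
    show ((φ.symm _ : L) : G) * _ = 1
    rw [← Subgroup.coe_mul, ← map_mul, ← map_mul, hsk b hb, map_one, map_one, Subgroup.coe_one]
  have h11 : (1 : F) + 1 ^ 2 ^ n = 0 := by rw [one_pow]; linear_combination h2
  set z₀ := T 1 h11 with hz₀
  have hz₀2 : orderOf z₀ = 2 := Involution.orderOf_of_sq (hTsq 1 h11) fun h => by
    refine cl_suTransvection_ne_one hF (by norm_num) (vv_ne_zero (F := F)) (vv_isotropic h2) h11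
      one_ne_zero ?_
    exact φ.symm.injective ((Subtype.ext h : φ.symm _ = 1).trans (map_one φ.symm).symm)
  obtain ⟨Z₀, S₀, e₀, X₀⟩ := exists_ctx X.four_le X.q_pow X.shapes X.notNormal z₀ hz₀2
  -- the image of `e₀`
  have he₀ : Ψ e₀ ∈ (conjHom3 F (2 ^ n)).range := by
    refine mem_range_of_fix hF h2 (by linarith [X.four_le]) X.even_q
      (by rw [← map_pow, X₀.shape.pow_e, map_one]) fun b hb => ?_
    have hTC : T b hb ∈ Subgroup.centralizer ({z₀} : Set G) := by
      refine mem_centralizer_iff_commute.2 ?_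
      show ((φ.symm _ : L) : G) * (φ.symm _ : L) = (φ.symm _ : L) * (φ.symm _ : L)
      rw [← Subgroup.coe_mul, ← Subgroup.coe_mul, ← map_mul, ← map_mul, ← map_mul, ← map_mul,
        (hcommT b 1 hb h11).eq]
    have hTZ := X₀.shape.inv_mem _ hTC (hTsq b hb)
    have hc := (X₀.shape.central _ hTZ _ X₀.shape.e_mem).eq
    conv_lhs => rw [← φ.apply_symm_apply (cl 3 F (2 ^ n) _), hΨ]
    conv_rhs => rw [← φ.apply_symm_apply (cl 3 F (2 ^ n) _)]
    refine congrArg φ (Subtype.ext ?_)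
    rw [MulAut.conjNormal_apply]
    show e₀ * T b hb * e₀⁻¹ = T b hb
    rw [← hc, mul_inv_cancel_right]
  have hLrange : ∀ l ∈ L, Ψ l ∈ (conjHom3 F (2 ^ n)).range := by
    intro l hl
    obtain ⟨g, hg⟩ := AutPSU.cl_surjective (φ ⟨l, hl⟩)
    refine ⟨⟨suMat 3 F (2 ^ n) g, suMat_mem g⟩, ?_⟩
    rw [conjHom3, conjAut_apply, ← conj_cl, hg]
    refine MulEquiv.ext fun p => ?_
    obtain ⟨x, rfl⟩ := φ.surjective p
    rw [hΨ, MulAut.conj_apply, ← map_inv, ← map_mul, ← map_mul]
    exact congrArg φ (Subtype.ext (by simp [MulAut.conjNormal_apply]))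
  have hall : Ψ.range ≤ (conjHom3 F (2 ^ n)).range := by
    rintro _ ⟨g, rfl⟩
    obtain ⟨t, ht, htH⟩ := Involution.exists_not_mem X.isSE
    have hSE := isStronglyEmbedded_inter X.isSE L (fun h => htH (h (hinv t ht))) X.ord_z
      (hinv z X.ord_z) (X.cc_le (X.shape.Z_le_C X.z_mem))
    obtain ⟨l, hl⟩ := isConj_iff.1 (isConj_involutions hSE
      (s := (⟨z₀, hinv z₀ hz₀2⟩ : L)) (t := ⟨g * z₀ * g⁻¹, hinv _ (by rw [orderOf_conj, hz₀2])⟩)
      (by rw [← Subgroup.orderOf_coe]; exact hz₀2)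
      (by rw [← Subgroup.orderOf_coe]; exact (orderOf_conj g z₀).trans hz₀2))
    have hl' : (l : G) * z₀ * (l : G)⁻¹ = g * z₀ * g⁻¹ := congrArg Subtype.val hl
    have hc : (l : G)⁻¹ * g ∈ Subgroup.centralizer ({z₀} : Set G) := by
      refine mem_centralizer_iff_commute.2 ?_
      show (l : G)⁻¹ * g * z₀ = z₀ * ((l : G)⁻¹ * g)
      calc (l : G)⁻¹ * g * z₀ = (l : G)⁻¹ * (g * z₀ * g⁻¹) * g := by group
        _ = z₀ * ((l : G)⁻¹ * g) := by rw [← hl']; group
    obtain ⟨s, hs, k, hk⟩ := X₀.shape.decomp X₀.two_le hc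
    obtain ⟨m, hm⟩ := X₀.isPGroup_S ⟨s, hs⟩
    have hgd : g = ((l : G) * s) * e₀ ^ k := by rw [mul_assoc, ← hk, mul_inv_cancel_left]
    rw [hgd, map_mul, map_pow]
    exact Subgroup.mul_mem _ (hLrange _ (L.mul_mem l.2 (hLel s m (congrArg Subtype.val hm))))
      (Subgroup.pow_mem _ he₀ k)
  have hcard : Nat.card (conjHom3 F (2 ^ n)).range = Nat.card G := by
    rw [← Subgroup.index_ker, ker_conjHom3 hF, X.card_G', ← card_quot hF]
    rfl
  have heq : Ψ.range = (conjHom3 F (2 ^ n)).range := Subgroup.eq_of_le_of_card_ge hall (by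
    rw [hcard, Nat.card_congr (MonoidHom.ofInjective hΨinj).toEquiv])
  exact ⟨(MonoidHom.ofInjective hΨinj).trans ((MulEquiv.subgroupCongr heq).trans
    ((QuotientGroup.quotientKerEquivRange (conjHom3 F (2 ^ n))).symm.trans
      (QuotientGroup.quotientMulEquivOfEq (ker_conjHom3 hF))))⟩

section transport

variable {F K : Type*} [Field F] [Field K]

/-- `PGU₃` of isomorphic fields. -/
theorem nonempty_equiv_of_ringEquiv {q : ℕ} (τ : F ≃+* K) :
    Nonempty ((Cfsg.GU 3 F q ⧸ Subgroup.center (Cfsg.GU 3 F q)) ≃*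
      (Cfsg.GU 3 K q ⧸ Subgroup.center (Cfsg.GU 3 K q))) := by
  let Φ : GL (Fin 3) F ≃* GL (Fin 3) K := Units.mapEquiv τ.mapMatrix.toMulEquiv
  have hform : ∀ x y : Fin 3 → F,
      τ (Cfsg.hermForm 3 F q x y) = Cfsg.hermForm 3 K q (τ ∘ x) (τ ∘ y) := by
    intro x y; simp [Cfsg.hermForm]
  have hmv : ∀ (g : GL (Fin 3) F) (w : Fin 3 → F), (Φ g).1 *ᵥ (τ ∘ w) = τ ∘ (g.1 *ᵥ w) := by
    intro g w
    funext i
    simp [Φ, Matrix.mulVec, dotProduct]
  have hmem : ∀ g, g ∈ Cfsg.GU 3 F q ↔ Φ g ∈ Cfsg.GU 3 K q := by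
    intro g
    rw [Unitary.mem_GU_iff, Unitary.mem_GU_iff]
    constructor
    · intro h u v
      obtain ⟨u, rfl⟩ : ∃ x, τ ∘ x = u := ⟨τ.symm ∘ u, funext fun i => τ.apply_symm_apply _⟩
      obtain ⟨v, rfl⟩ : ∃ x, τ ∘ x = v := ⟨τ.symm ∘ v, funext fun i => τ.apply_symm_apply _⟩
      rw [hmv, hmv, ← hform, ← hform, h]
    · intro h u v
      apply τ.injective
      rw [hform, hform, ← hmv, ← hmv, h]
  let Ψ : Cfsg.GU 3 F q ≃* Cfsg.GU 3 K q :=
    { toFun := fun g => ⟨Φ g, (hmem g).1 g.2⟩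
      invFun := fun g => ⟨Φ.symm g, (hmem _).2 (by rw [Φ.apply_symm_apply]; exact g.2)⟩
      left_inv := fun g => Subtype.ext (Φ.symm_apply_apply _)
      right_inv := fun g => Subtype.ext (Φ.apply_symm_apply _)
      map_mul' := fun a b => Subtype.ext (map_mul Φ a.1 b.1) }
  refine ⟨QuotientGroup.congr _ _ Ψ ?_⟩
  ext x
  rw [Subgroup.mem_map]
  constructor
  · rintro ⟨y, hy, rfl⟩
    refine Subgroup.mem_center_iff.2 fun b => ?_
    obtain ⟨a, rfl⟩ := Ψ.surjective b
    show Ψ a * Ψ y = Ψ y * Ψ a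
    rw [← map_mul, ← map_mul, Subgroup.mem_center_iff.1 hy a]
  · intro hx
    refine ⟨Ψ.symm x, Subgroup.mem_center_iff.2 fun a => Ψ.injective ?_, Ψ.apply_symm_apply x⟩
    rw [map_mul, map_mul, Ψ.apply_symm_apply]
    exact Subgroup.mem_center_iff.1 hx (Ψ a)

end transport

end Cfsg.Agent.PGU3Char
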