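import Cfsg.Agent.Lib.PGU3Char.Regular
import Cfsg.Agent.Lib.SuzukiRankOne.Main

/-!
# The rank one set-up

* `Ctx.semiregular` : `S` is semiregular on the other cosets
* `Ctx.faithful` : the action is faithful
* `Ctx.exists_L` : a normal subgroup of odd index is `PSU₃(q)`
* `Ctx.card_G'` : the order of the group
-/

set_option autoImplicit false
set_option linter.style.haveILetI false
set_option linter.unusedSectionVars false

namespace Cfsg.Agent.PGU3Char

open Cfsg Cfsg.Agent.Involution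
open scoped Pointwise

universe u

variable {G : Type u} [Group G] [Finite G] {q : ℕ} {z : G} {Z S : Subgroup G} {e : G}

namespace Ctx

variable (X : Ctx q z Z S e)
include X

local notation "CC" => Subgroup.centralizer (Singleton.singleton z : Set G)
local notation "HH" => Subgroup.normalizer (Z : Set G)
local notation "o" => ((1 : G) : G ⧸ Subgroup.normalizer (Z : Set G))

theorem semiregular {s : G} (hs : s ∈ S) {x : G ⧸ HH} (hx : x ≠ o) (hsx : s • x = x) : s = 1 := by
  by_contra hs1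
  haveI : Fact (Nat.Prime 2) := ⟨Nat.prime_two⟩
  have heven : Even (Nat.card (Subgroup.zpowers s)) := by
    obtain ⟨m, hm⟩ := (X.isPGroup_S.to_le (Subgroup.zpowers_le.2 hs)).exists_card_eq
    rcases m with _ | m
    · rw [Nat.card_zpowers, pow_zero, orderOf_eq_one_iff] at hm
      exact absurd hm hs1
    · exact ⟨2 ^ m, by rw [hm, pow_succ]; ring⟩
  obtain ⟨w, hw, hw2⟩ := exists_involution_mem heven
  have hwH : w ∈ HH := (Subgroup.zpowers_le.2 (X.cc_le (X.shape.S_le hs))) hw
  have hwx : w • x = x := MulAction.mem_stabilizer_iff.1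
    ((Subgroup.zpowers_le.2 (MulAction.mem_stabilizer_iff.2 hsx)) hw)
  exact hx (fixed_unique X.isSE hw2 hwx (X.smul_o.2 hwH))

theorem card_D' {t : G} (htb : t • o ≠ o) :
    Nat.card ↥(HH ⊓ MulAction.stabilizer G (t • o)) = (q - 1) * (q + 1) := by
  rw [X.card_D htb, X.card_D_cc htb]

theorem sup_eq {t : G} (htb : t • o ≠ o) : S ⊔ (HH ⊓ MulAction.stabilizer G (t • o)) = HH := by
  have hle : S ⊔ (HH ⊓ MulAction.stabilizer G (t • o)) ≤ HH :=
    sup_le (X.shape.S_le.trans X.cc_le) inf_le_left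
  refine Subgroup.eq_of_le_of_card_ge hle ?_
  rw [X.card_H]
  refine Nat.le_of_dvd Nat.card_pos ?_
  rw [show (q - 1) * (q ^ 3 * (q + 1)) = q ^ 3 * ((q - 1) * (q + 1)) by ring]
  refine Nat.Coprime.mul_dvd_of_dvd_of_dvd ?_ (X.shape.card_S ▸ Subgroup.card_dvd_of_le le_sup_left)
    (X.card_D' htb ▸ Subgroup.card_dvd_of_le le_sup_right)
  obtain ⟨n, hn⟩ := X.q_pow
  have hodd := X.card_D' htb ▸ X.odd_D htb
  rw [hn, ← pow_mul]
  rw [hn] at hodd
  exact Nat.Coprime.pow_left _ (Nat.prime_two.coprime_iff_not_dvd.2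
    (by rw [Nat.two_dvd_ne_zero]; exact Nat.odd_iff.1 hodd))

theorem two_transitive : MulAction.IsMultiplyPretransitive G (G ⧸ HH) 2 := by
  have key : ∀ a b : G ⧸ HH, a ≠ b → ∃ g : G, g • a = o ∧ g • b ≠ o := by
    intro a b hab
    induction a using QuotientGroup.induction_on with | _ g =>
    refine ⟨g⁻¹, ?_, fun h => hab ?_⟩
    · rw [MulAction.Quotient.smul_mk, smul_eq_mul, inv_mul_cancel]
    · rw [inv_smul_eq_iff] at h
      rw [h, MulAction.Quotient.smul_mk, smul_eq_mul, mul_one]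
  refine MulAction.is_two_pretransitive_iff.2 fun {a b c d} hab hcd => ?_
  obtain ⟨g, hga, hgb⟩ := key a b hab
  obtain ⟨g', hgc, hgd⟩ := key c d hcd
  obtain ⟨h, hh, hhb⟩ := X.transitive hgb hgd
  refine ⟨g'⁻¹ * (h * g), ?_, ?_⟩
  · rw [mul_smul, mul_smul, hga, X.smul_o.2 hh, ← hgc, inv_smul_smul]
  · rw [mul_smul, mul_smul, hhb, inv_smul_smul]

theorem faithful : FaithfulSMul G (G ⧸ HH) := by
  refine ⟨fun {g g'} he => ?_⟩
  set c := g'⁻¹ * g with hc
  suffices c = 1 by
    rw [hc, inv_mul_eq_one] at this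
    exact this.symm
  have hfix : ∀ x : G ⧸ HH, c • x = x := fun x => by rw [hc, mul_smul, he, inv_smul_smul]
  obtain ⟨t, -, -, htb⟩ := X.exists_point
  have hcH : c ∈ HH := X.smul_o.1 (hfix _)
  have hcomm : ∀ s ∈ S, c * s * c⁻¹ * s⁻¹ = 1 := by
    intro s hs
    refine X.semiregular (S.mul_mem (X.conj_S hcH hs) (S.inv_mem hs)) htb ?_
    have hci : ∀ x : G ⧸ HH, c⁻¹ • x = x := fun x => by rw [inv_smul_eq_iff, hfix]
    rw [mul_smul, mul_smul, mul_smul, hci, smul_inv_smul, hfix]
  have hcC : c ∈ CC := mem_centralizer_iff_commute.2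
    (mul_inv_eq_iff_eq_mul.1 (mul_inv_eq_one.1 (hcomm z (X.shape.Z_le X.z_mem))) : c * z = z * c)
  exact X.semiregular (X.shape.mem_S_of_fix X.two_le hcC fun s hs => by
    rw [hcomm s hs]; exact Z.one_mem) htb (hfix _)

theorem not_comm_S : ¬ IsMulCommutative S := by
  intro h
  have hc : ∀ a b : S, a * b = b * a := fun a b => h.is_comm.comm a b
  let f : S →* Z := MonoidHom.mk' (fun s => ⟨(s : G) * s, X.shape.sq_mem s s.2⟩) fun a b =>
    Subtype.ext (by
      show ((a : G) * b) * (a * b) = a * a * (b * b)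
      have := congrArg Subtype.val (hc b a)
      simp only [Subgroup.coe_mul] at this
      calc (a : G) * b * (a * b) = a * (b * a) * b := by group
        _ = _ := by rw [this]; group)
  have hker : Nat.card f.ker ≤ q := by
    rw [← X.shape.card_Z]
    refine Nat.card_le_card_of_injective (fun s => ⟨s.1.1, X.shape.inv_mem _ (X.shape.S_le s.1.2)
      (congrArg Subtype.val (MonoidHom.mem_ker.1 s.2))⟩) fun s s' e => ?_
    exact Subtype.ext (Subtype.ext (congrArg (fun x : Z => (x : G)) e))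
  have hrange : Nat.card f.range ≤ q := X.shape.card_Z ▸ Subgroup.card_le_card_group f.range
  have h1 := Subgroup.card_mul_index f.ker
  rw [Subgroup.index_ker, X.shape.card_S] at h1
  have h4 := X.four_le
  have : q ^ 3 ≤ q * q := h1 ▸ Nat.mul_le_mul hker hrange
  nlinarith [Nat.mul_le_mul_left (q * q) h4]

theorem exists_L : ∃ L : Subgroup G, L.Normal ∧ Odd L.index ∧
    ∃ (F : Type) (_ : Field F) (_ : Fintype F) (n : ℕ), 2 ≤ n ∧ Fintype.card F = (2 ^ n) ^ 2 ∧
      q = 2 ^ n ∧ Nonempty (L ≃* Cfsg.PSU 3 F (2 ^ n)) := by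
  haveI := X.faithful
  obtain ⟨t, ht, htH, htb⟩ := X.exists_point
  have hset : Cfsg.IsRankOneSetup G (G ⧸ HH) o t S :=
    { two_transitive := X.two_transitive
      mul_self := mul_self ht
      ne_one := ne_one ht
      not_mem := by rwa [X.stab_o]
      le := by rw [X.stab_o]; exact X.shape.S_le.trans X.cc_le
      conj_mem := fun h hh x hx => X.conj_S (by rwa [X.stab_o] at hh) hx
      inf_eq_bot := eq_bot_iff.2 fun s hs =>
        Subgroup.mem_bot.2 (X.semiregular hs.1 htb (MulAction.mem_stabilizer_iff.1 hs.2))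
      sup_eq := by rw [X.stab_o]; exact X.sup_eq htb
      even_card := by
        rw [even_iff_two_dvd, ← X.ord_z]
        exact Subgroup.orderOf_dvd_natCard _ (X.shape.Z_le X.z_mem)
      odd_card := by rw [X.stab_o]; exact X.odd_D htb }
  have hparam : SuzukiRankOne.param G o = q := by
    rw [SuzukiRankOne.param, X.stab_o]
    have : Nat.card (Cfsg.involutionsIn ((HH : Subgroup G) : Set G)) = q - 1 := by
      rw [← X.card_invol]
      exact Nat.card_congr
        { toFun := fun x => ⟨⟨x.1, X.inv_mem_Z x.2.1 x.2.2.2⟩,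
            fun h => x.2.2.1 (congrArg Subtype.val h)⟩
          invFun := fun x => ⟨x.1.1, X.cc_le (X.shape.Z_le_C x.1.2), fun h => x.2 (Subtype.ext h),
            X.shape.sq_one _ x.1.2⟩
          left_inv := fun x => rfl
          right_inv := fun x => rfl }
    have h4 := X.four_le
    omega
  obtain ⟨L, hL, hLodd, F, _, _, n, hn, hF, ⟨φ⟩⟩ := SuzukiRankOne.unitary_case hset X.twoInv
    X.isPGroup_S X.not_comm_S (by rw [X.shape.card_S, hparam])
  refine ⟨L, hL, hLodd, F, _, _, n, hn, hF, ?_, ⟨φ⟩⟩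
  haveI : Fact (Nat.Prime 2) := ⟨Nat.prime_two⟩
  obtain ⟨m, hm⟩ := X.q_pow
  obtain ⟨T, hT⟩ := (default : Sylow 2 L).exists_comap_subtype_eq
  have h2F : (2 : F) = 0 := by
    obtain ⟨p, hp⟩ := CharP.exists F
    obtain ⟨k, hpp, hk⟩ := FiniteField.card F p
    have : p = 2 := by
      refine (Nat.prime_dvd_prime_iff_eq hpp Nat.prime_two).1
        (hpp.dvd_of_dvd_pow (n := n * 2) ?_)
      rw [pow_mul, ← hF, hk]
      exact dvd_pow_self p k.pos.ne'
    subst this
    exact_mod_cast CharP.cast_eq_zero F 2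
  -- compare the Sylow subgroups
  obtain ⟨P, hP⟩ := Unitary.exists_equiv (by omega) rfl hF h2F
    ((default : Sylow 2 (Cfsg.PSU 3 F (2 ^ n)))) |>.elim fun ψ =>
      (⟨(default : Sylow 2 (Cfsg.PSU 3 F (2 ^ n))), (Nat.card_congr ψ.toEquiv).symm.trans
        Unitary.card_sylThree⟩ : ∃ P : Sylow 2 (Cfsg.PSU 3 F (2 ^ n)),
          Nat.card (P : Subgroup (Cfsg.PSU 3 F (2 ^ n))) = (2 ^ n) ^ 3)
  have h1 := P.card_eq_multiplicity
  rw [hP, ← Nat.card_congr φ.toEquiv] at h1
  obtain ⟨T', hT'⟩ := X.exists_sylow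
  have h2' := T'.card_eq_multiplicity
  rw [hT', X.shape.card_S] at h2'
  have h3 : (Nat.card G).factorization 2 = (Nat.card L).factorization 2 := by
    rw [← L.card_mul_index, Nat.factorization_mul Nat.card_pos.ne' (Subgroup.index_ne_zero_of_finite),
      Finsupp.add_apply, Nat.factorization_eq_zero_of_not_dvd (n := L.index)
        (by rw [Nat.two_dvd_ne_zero]; exact Nat.odd_iff.1 hLodd), add_zero]
  rw [h3, ← h1] at h2'
  exact Nat.pow_left_injective (by norm_num) h2'

theorem card_G' : Nat.card G = (q ^ 3 + 1) * ((q - 1) * (q ^ 3 * (q + 1))) := by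
  rw [X.card_G, X.index_eq]

end Ctx

end Cfsg.Agent.PGU3Char
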