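import Cfsg.Agent.Lib.SuzukiRankOne.Kernel.Semilinear

/-!
# Endomorphism rings of irreducible elementary abelian 2-groups

* `noZeroDivisors_centralizer` : the centraliser ring of an irreducible set is a domain
* `isCyclic_of_transitive` : an abelian group transitive on the nonzero vectors is cyclic
* `commute_of_normalizes` : if `e` has order `q + 1` with fixed-point-free powers on `V`, `|V| = q²`,
  then an element of order `q - 1` normalising `⟨e⟩` commutes with `e`
-/

set_option autoImplicit false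

namespace Cfsg.Agent.PGU3Char

variable {V : Type*} [AddCommGroup V] [Finite V] [Nontrivial V]

/-- No subgroup other than `⊥` and `⊤` is invariant under all of `T`. -/
def Irred (T : Set (AddMonoid.End V)) : Prop :=
  ∀ W : AddSubgroup V, (∀ a ∈ T, ∀ w ∈ W, a w ∈ W) → W = ⊥ ∨ W = ⊤

theorem injective_of_mem_centralizer {T : Set (AddMonoid.End V)} (hT : Irred T)
    {a : AddMonoid.End V} (ha : a ∈ Subring.centralizer T) (ha0 : a ≠ 0) :
    Function.Injective a := by
  have hadd : ∀ x y : V, a (x + y) = a x + a y := map_add a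
  let W : AddSubgroup V :=
    { carrier := {w | a w = 0}
      zero_mem' := map_zero a
      add_mem' := fun {x y} (hx : a x = 0) (hy : a y = 0) => by
        show a (x + y) = 0
        rw [hadd, hx, hy, add_zero]
      neg_mem' := fun {x} (hx : a x = 0) => by
        show a (-x) = 0
        rw [map_neg a, hx, neg_zero] }
  rcases hT W (fun t ht w (hw : a w = 0) => by
    show a (t w) = 0
    have h : t (a w) = a (t w) := DFunLike.congr_fun (Subring.mem_centralizer_iff.1 ha t ht) w
    rw [← h, hw, map_zero t]) with h | h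
  · intro x y hxy
    have hm : x - y ∈ W := by
      show a (x - y) = 0
      rw [map_sub a, hxy, sub_self]
    rw [h, AddSubgroup.mem_bot] at hm
    exact sub_eq_zero.1 hm
  · exact absurd (DFunLike.ext a 0 fun w => (h ▸ AddSubgroup.mem_top w : w ∈ W)) ha0

theorem noZeroDivisors_centralizer {T : Set (AddMonoid.End V)} (hT : Irred T) :
    IsDomain (Subring.centralizer T) := by
  haveI : NoZeroDivisors (Subring.centralizer T) := ⟨fun {a b} h => by
    by_cases ha : a = 0
    · exact Or.inl ha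
    · refine Or.inr (Subtype.ext (DFunLike.ext _ _ fun w => ?_))
      apply injective_of_mem_centralizer hT a.2 (fun e => ha (Subtype.ext e))
      have h' := DFunLike.congr_fun (congrArg Subtype.val h) w
      exact h'.trans (map_zero (a : AddMonoid.End V)).symm⟩
  obtain ⟨v, hv⟩ := exists_ne (0 : V)
  haveI : Nontrivial (Subring.centralizer T) :=
    ⟨⟨0, 1, fun e => hv (DFunLike.congr_fun (congrArg Subtype.val e) v).symm⟩⟩
  exact NoZeroDivisors.to_isDomain _

/-- The centraliser ring of an irreducible set is a commutative domain. -/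
theorem centralizer_comm {T : Set (AddMonoid.End V)} (hT : Irred T)
    (a b : Subring.centralizer T) : a * b = b * a := by
  haveI := noZeroDivisors_centralizer hT
  haveI : Finite (AddMonoid.End V) := Finite.of_injective (fun a : AddMonoid.End V => (a : V → V))
    DFunLike.coe_injective
  exact (Finite.isDomain_to_isField (Subring.centralizer T)).mul_comm a b

omit [Nontrivial V] in
theorem finite_end : Finite (AddMonoid.End V) :=
  Finite.of_injective (fun a : AddMonoid.End V => (a : V → V)) DFunLike.coe_injective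

/-- An abelian group acting faithfully and transitively on the nonzero vectors is cyclic. -/
theorem isCyclic_of_transitive {A : Type*} [Group A] [Finite A] (hab : ∀ a b : A, a * b = b * a)
    (f : A →* AddMonoid.End V) (hinj : Function.Injective f)
    (htr : ∀ v w : V, v ≠ 0 → w ≠ 0 → ∃ a, f a v = w) : IsCyclic A := by
  have hT : Irred (Set.range f) := by
    intro W hW
    by_cases h : W = ⊥
    · exact Or.inl h
    · obtain ⟨⟨v, hvW⟩, hv⟩ : ∃ v : W, (v : V) ≠ 0 := by
        by_contra hc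
        push Not at hc
        exact h (eq_bot_iff.2 fun x hx => hc ⟨x, hx⟩)
      refine Or.inr (eq_top_iff.2 fun w _ => ?_)
      by_cases hw : w = 0
      · exact hw ▸ W.zero_mem
      · obtain ⟨a, ha⟩ := htr v w hv hw
        exact ha ▸ hW _ ⟨a, rfl⟩ v hvW
  haveI := noZeroDivisors_centralizer hT
  haveI := finite_end (V := V)
  letI : CommRing (Subring.centralizer (Set.range f)) :=
    { (inferInstance : Ring (Subring.centralizer (Set.range f))) with
      mul_comm := centralizer_comm hT }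
  refine isCyclic_of_subgroup_isDomain
    (f.codRestrict (Subring.centralizer (Set.range f)) fun a => Subring.mem_centralizer_iff.2 ?_)
    fun a b h => hinj (congrArg Subtype.val h)
  rintro _ ⟨b, rfl⟩
  rw [← map_mul, ← map_mul, hab]

/-- `2 ^ n + 1` divides `2 ^ d - 1` only if `2 n ∣ d`. -/
theorem two_mul_dvd_of_dvd {n d : ℕ} (hn : 1 ≤ n) (h : 2 ^ n + 1 ∣ 2 ^ d - 1) : 2 * n ∣ d := by
  have h2 : 2 ^ n + 1 ∣ 2 ^ (2 * n) - 1 := ⟨2 ^ n - 1, by
    rw [mul_comm 2 n, pow_mul, ← one_pow 2, Nat.sq_sub_sq, one_pow]⟩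
  have hg := Nat.dvd_gcd h h2
  rw [Nat.pow_sub_one_gcd_pow_sub_one] at hg
  set g := Nat.gcd d (2 * n)
  have hgd : g ∣ 2 * n := Nat.gcd_dvd_right _ _
  have hg0 : 0 < g := Nat.pos_of_dvd_of_pos hgd (by omega)
  have hle := Nat.le_of_dvd (by
    have : 2 ^ 1 ≤ 2 ^ g := Nat.pow_le_pow_right (by norm_num) hg0
    omega) hg
  have hlt : n < g := by
    by_contra hc
    have h1 : 2 ^ g ≤ 2 ^ n := Nat.pow_le_pow_right (by norm_num) (by omega)
    generalize 2 ^ g = a at hle h1
    generalize 2 ^ n = b at hle h1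
    omega
  obtain ⟨k, hk⟩ := hgd
  obtain rfl : k = 1 := by
    rcases k with _ | _ | k
    · omega
    · rfl
    · exfalso; nlinarith
  rw [show 2 * n = g by omega]
  exact Nat.gcd_dvd_left _ _

/-- A fixed-point-free element of order `q + 1` on a space of order `q²` is irreducible. -/
theorem irred_of_fpf {n : ℕ} (hn : 1 ≤ n) (h2 : ∀ v : V, v + v = 0)
    (hcard : Nat.card V = 2 ^ (2 * n)) {e : AddMonoid.End V} (he : e ^ (2 ^ n + 1) = 1)
    (hfpf : ∀ (k : ℕ) (v : V), v ≠ 0 → (e ^ k) v = v → 2 ^ n + 1 ∣ k) : Irred {e} := by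
  classical
  intro W hW
  have hW' : ∀ w ∈ W, ∀ k : ℕ, (e ^ k) w ∈ W := by
    intro w hw k
    induction k with
    | zero => simpa using hw
    | succ k ih => rw [pow_succ']; exact hW e rfl _ ih
  let u : (AddMonoid.End V)ˣ := ⟨e, e ^ 2 ^ n, by rw [← pow_succ', he], by rw [← pow_succ, he]⟩
  have hu : orderOf u = 2 ^ n + 1 := by
    refine (orderOf_eq_iff (Nat.succ_pos _)).2 ⟨Units.ext (by rw [Units.val_pow_eq_pow_val]; exact he),
      fun k hk hk0 h => ?_⟩
    obtain ⟨v, hv⟩ := exists_ne (0 : V)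
    have := Nat.le_of_dvd hk0 (hfpf k v hv (by
      have h' := congrArg Units.val h
      rw [Units.val_pow_eq_pow_val] at h'
      show (e ^ k) v = v
      rw [show e ^ k = 1 from h']
      rfl))
    omega
  have hpow : ∀ g : Subgroup.zpowers u, ∃ k : ℕ, ((g : (AddMonoid.End V)ˣ) : AddMonoid.End V) = e ^ k := by
    intro g
    haveI := finite_end (V := V)
    obtain ⟨k, hk⟩ := Subgroup.mem_zpowers_iff.1 g.2 |>.elim fun z hz =>
      (mem_powers_iff_mem_zpowers.2 ⟨z, hz⟩ : (g : (AddMonoid.End V)ˣ) ∈ Submonoid.powers u)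
    exact ⟨k, by rw [← hk, Units.val_pow_eq_pow_val]⟩
  let X := {w : W // w ≠ 0}
  have hmem : ∀ (g : Subgroup.zpowers u) (w : X),
      ((g : (AddMonoid.End V)ˣ) : AddMonoid.End V) (w.1 : V) ∈ W ∧
        ((g : (AddMonoid.End V)ˣ) : AddMonoid.End V) (w.1 : V) ≠ 0 := by
    intro g w
    obtain ⟨k, hk⟩ := hpow g
    refine ⟨hk ▸ hW' _ w.1.2 k, fun h => w.2 (Subtype.ext ?_)⟩
    have h' := congrArg (fun v => (((g : (AddMonoid.End V)ˣ)⁻¹ : (AddMonoid.End V)ˣ) : AddMonoid.End V) v) h
    simp only [map_zero] at h'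
    refine Eq.trans ?_ h'
    show (1 : AddMonoid.End V) (w.1 : V) = ((((g : (AddMonoid.End V)ˣ)⁻¹ : (AddMonoid.End V)ˣ) : AddMonoid.End V) * ((g : (AddMonoid.End V)ˣ) : AddMonoid.End V)) (w.1 : V)
    rw [← Units.val_mul, inv_mul_cancel]
    rfl
  letI act : MulAction (Subgroup.zpowers u) X :=
    { smul := fun g w => ⟨⟨_, (hmem g w).1⟩, fun h => (hmem g w).2 (congrArg Subtype.val h)⟩
      one_smul := fun w => rfl
      mul_smul := fun g g' w => rfl }
  have hfree : ∀ w : X, MulAction.stabilizer (Subgroup.zpowers u) w = ⊥ := by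
    intro w
    refine eq_bot_iff.2 fun g hg => Subgroup.mem_bot.2 ?_
    have h' : ((g : (AddMonoid.End V)ˣ) : AddMonoid.End V) (w.1 : V) = (w.1 : V) :=
      congrArg (fun x : X => ((x.1 : W) : V)) (MulAction.mem_stabilizer_iff.1 hg)
    obtain ⟨k, hk⟩ := hpow g
    obtain ⟨l, rfl⟩ := hfpf k _ (fun h => w.2 (Subtype.ext h)) (hk ▸ h')
    refine Subtype.ext (Units.ext (hk.trans ?_))
    rw [pow_mul, he, one_pow]
    rfl
  have hdvd : 2 ^ n + 1 ∣ Nat.card W - 1 := by
    have h := Nat.card_congr (MulAction.selfEquivOrbitsQuotientProd hfree)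
    rw [Nat.card_prod, Nat.card_zpowers, hu] at h
    refine Dvd.intro_left _ (h.symm.trans ?_)
    haveI := Fintype.ofFinite W
    rw [Nat.card_eq_fintype_card, Fintype.card_subtype_compl, Fintype.card_subtype_eq,
      Nat.card_eq_fintype_card]
  haveI : Fact (Nat.Prime 2) := ⟨Nat.prime_two⟩
  obtain ⟨d, hd, hd'⟩ : ∃ d, d ≤ 2 * n ∧ Nat.card W = 2 ^ d :=
    (Nat.dvd_prime_pow Nat.prime_two).1 (hcard ▸ AddSubgroup.card_addSubgroup_dvd_card W)
  rw [hd'] at hdvd
  obtain ⟨l, rfl⟩ := two_mul_dvd_of_dvd hn hdvd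
  rcases l with _ | _ | l
  · exact Or.inl (AddSubgroup.eq_bot_of_card_eq W (by simpa using hd'))
  · exact Or.inr (AddSubgroup.eq_top_of_card_eq W (by rw [hd', hcard, zero_add, mul_one]))
  · exfalso; nlinarith

/-- `r (2 ^ d - 1) < 2 ^ (d r) - 1` for `r ≥ 2`. -/
theorem mul_pred_lt {d : ℕ} (hd : 1 ≤ d) :
    ∀ r, 2 ≤ r → r * (2 ^ d - 1) < 2 ^ (d * r) - 1 := by
  intro r hr
  induction r, hr using Nat.le_induction with
  | base =>
    have h1 : 2 ≤ 2 ^ d := Nat.le_self_pow (by omega) 2
    rw [pow_mul]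
    obtain ⟨b, hb⟩ := Nat.exists_eq_add_of_le h1
    rw [hb]
    have : (2 + b) ^ 2 = 4 + 4 * b + b * b := by ring
    omega
  | succ r hr ih =>
    have h1 : 2 ≤ 2 ^ d := Nat.le_self_pow (by omega) 2
    rw [Nat.mul_succ d r, pow_add]
    obtain ⟨b, hb⟩ := Nat.exists_eq_add_of_le h1
    have h3 : 2 ^ (d * r) * 2 ^ d = 2 * 2 ^ (d * r) + 2 ^ (d * r) * b := by rw [hb]; ring
    have h4 : 0 < 2 ^ (d * r) := by positivity
    have h5 : b ≤ 2 ^ (d * r) * b := Nat.le_mul_of_pos_left _ h4
    rw [add_mul, one_mul]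
    omega

/-- An element of order `q - 1` normalising a fixed-point-free cyclic group of order `q + 1` on a
space of order `q²` centralises it. -/
theorem commute_of_normalizes {n : ℕ} (hn : 1 ≤ n) (h2 : ∀ v : V, v + v = 0)
    (hcard : Nat.card V = 2 ^ (2 * n)) {e g : AddMonoid.End V} (he : e ^ (2 ^ n + 1) = 1)
    (hfpf : ∀ (k : ℕ) (v : V), v ≠ 0 → (e ^ k) v = v → 2 ^ n + 1 ∣ k)
    (hg : g ^ (2 ^ n - 1) = 1) (hgord : ∀ k : ℕ, g ^ k = 1 → 2 ^ n - 1 ∣ k)
    {m : ℕ} (hm : g * e = e ^ m * g) : Commute g e := by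
  classical
  have hN1 : 1 ≤ 2 ^ n - 1 := by
    have : 2 ^ 1 ≤ 2 ^ n := Nat.pow_le_pow_right (by norm_num) hn
    omega
  have hNodd : ∃ l, 2 ^ n - 1 = 2 * l + 1 := by
    obtain ⟨n', rfl⟩ : ∃ n', n = n' + 1 := ⟨n - 1, by omega⟩
    exact ⟨2 ^ n' - 1, by rw [pow_succ]; have : 0 < 2 ^ n' := Nat.two_pow_pos n'; omega⟩
  set g' := g ^ (2 ^ n - 1 - 1) with hg'
  have hgg' : g * g' = 1 := by rw [hg', ← pow_succ', Nat.sub_add_cancel hN1, hg]
  have hg'g : g' * g = 1 := by rw [hg', ← pow_succ, Nat.sub_add_cancel hN1, hg]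
  have hiter : ∀ k : ℕ, g ^ k * e = e ^ (m ^ k) * g ^ k := by
    intro k
    induction k with
    | zero => simp
    | succ k ih =>
      have hcomm : ∀ j : ℕ, g * e ^ j = e ^ (m * j) * g := by
        intro j
        induction j with
        | zero => simp
        | succ j ihj =>
          rw [pow_succ, ← mul_assoc, ihj, mul_assoc, hm, ← mul_assoc, ← pow_add, Nat.mul_succ]
      rw [pow_succ', mul_assoc, ih, ← mul_assoc, hcomm, mul_assoc, pow_succ']
  have hT := irred_of_fpf hn h2 hcard he hfpf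
  haveI := noZeroDivisors_centralizer hT
  haveI := finite_end (V := V)
  set K := Subring.centralizer ({e} : Set (AddMonoid.End V)) with hKdef
  letI : CommRing K := { (inferInstance : Ring K) with mul_comm := centralizer_comm hT }
  letI : Field K := (Finite.isDomain_to_isField K).toField
  have hmemK : ∀ a : AddMonoid.End V, a ∈ K ↔ Commute e a := fun a => by
    rw [hKdef, Subring.mem_centralizer_iff]
    exact ⟨fun h => h e rfl, fun h x hx => by rw [Set.mem_singleton_iff] at hx; subst hx; exact h⟩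
  -- conjugation by `g`
  have hconjK : ∀ a ∈ K, g * a * g' ∈ K := by
    intro a ha
    rw [hmemK] at ha ⊢
    have h1 : g' * e = e ^ (m ^ (2 ^ n - 1 - 1)) * g' := hiter _
    show e * (g * a * g') = g * a * g' * e
    calc e * (g * a * g') = g * (g' * e) * (g * a * g') := by
          rw [← mul_assoc g, hgg', one_mul]
      _ = g * (e ^ (m ^ (2 ^ n - 1 - 1)) * (g' * g) * a) * g' := by
          rw [h1]; simp only [mul_assoc]
      _ = g * (a * e ^ (m ^ (2 ^ n - 1 - 1))) * g' := by
          rw [hg'g, mul_one, (ha.pow_left _).eq]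
      _ = g * a * (g' * e) := by rw [h1]; simp only [mul_assoc]
      _ = g * a * g' * e := by simp only [mul_assoc]
  let σ : K →+* K :=
    { toFun := fun a => ⟨g * a.1 * g', hconjK a.1 a.2⟩
      map_one' := Subtype.ext (by show g * 1 * g' = 1; rw [mul_one, hgg'])
      map_mul' := fun a b => Subtype.ext (by
        show g * (a.1 * b.1) * g' = g * a.1 * g' * (g * b.1 * g')
        calc g * (a.1 * b.1) * g' = g * a.1 * (g' * g) * b.1 * g' := by
              rw [hg'g, mul_one]
              simp only [mul_assoc]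
          _ = _ := by simp only [mul_assoc])
      map_zero' := Subtype.ext (by show g * 0 * g' = 0; rw [mul_zero, zero_mul])
      map_add' := fun a b => Subtype.ext (by
        show g * (a.1 + b.1) * g' = g * a.1 * g' + g * b.1 * g'
        rw [mul_add, add_mul]) }
  -- `σ` is a power of the Frobenius
  have h2K : (2 : K) = 0 := Subtype.ext (DFunLike.ext _ _ fun v => by
    show ((2 : K) : AddMonoid.End V) v = 0
    rw [show (2 : K) = 1 + 1 by norm_num, Subring.coe_add, OneMemClass.coe_one]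
    exact h2 v)
  haveI : CharP K 2 := CharTwo.of_one_ne_zero_of_two_eq_zero one_ne_zero h2K
  haveI := Fintype.ofFinite K
  obtain ⟨k, -, hk⟩ := FiniteField.card K 2
  obtain ⟨γ, hγ⟩ := IsCyclic.exists_generator (α := Kˣ)
  obtain ⟨i, -, hi⟩ := SuzukiRankOne.Kernel.exists_image_eq_pow h2K k.pos
    (by rw [← hk]; exact FiniteField.pow_card _) σ (x := (γ : K))
  have hσ : ∀ x : K, σ x = x ^ 2 ^ i := by
    intro x
    by_cases hx : x = 0
    · rw [hx, map_zero, zero_pow (by positivity)]
    · obtain ⟨j, hj⟩ := (mem_powers_iff_mem_zpowers.2 (hγ (Units.mk0 x hx)) :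
        Units.mk0 x hx ∈ Submonoid.powers γ)
      have hj' : (γ : K) ^ j = x := by exact (Units.val_pow_eq_pow_val γ j).symm.trans (congrArg Units.val hj)
      rw [← hj', map_pow, hi, ← pow_mul, ← pow_mul, mul_comm]
  let eK : K := ⟨e, (hmemK e).2 (Commute.refl e)⟩
  have heK : eK ^ (2 ^ n + 1) = 1 := Subtype.ext (by rw [SubmonoidClass.coe_pow]; exact he)
  have hge : g * e = e ^ 2 ^ i * g := by
    have h1 : g * e * g' = e ^ 2 ^ i := by
      have := congrArg Subtype.val (hσ eK)
      rwa [SubmonoidClass.coe_pow] at this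
    calc g * e = g * e * (g' * g) := by rw [hg'g, mul_one]
      _ = e ^ 2 ^ i * g := by rw [← h1]; simp only [mul_assoc]
  have hcomm : ∀ j : ℕ, g * e ^ j = e ^ (2 ^ i * j) * g := by
    intro j
    induction j with
    | zero => simp
    | succ j ihj =>
      rw [pow_succ, ← mul_assoc, ihj, mul_assoc, hge, ← mul_assoc, ← pow_add, Nat.mul_succ]
  have hiter2 : ∀ k : ℕ, g ^ k * e = e ^ 2 ^ (i * k) * g ^ k := by
    intro k
    induction k with
    | zero => simp
    | succ k ih =>
      rw [pow_succ', mul_assoc, ih, ← mul_assoc, hcomm, mul_assoc, Nat.mul_succ, add_comm (i * k),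
        pow_add]
  -- elements `g ^ (2 r)` with `n ∣ i r` centralise `e`
  have heper : ∀ l, e ^ 2 ^ (2 * n * l) = e := by
    intro l
    induction l with
    | zero => simp
    | succ l ih =>
      rw [Nat.mul_succ, pow_add, pow_mul, ih]
      have h2' : 2 ^ (2 * n) = (2 ^ n + 1) * (2 ^ n - 1) + 1 := by
        obtain ⟨b, hb⟩ := Nat.exists_eq_add_of_le (Nat.one_le_two_pow (n := n))
        rw [mul_comm 2 n, pow_mul, hb, Nat.add_sub_cancel_left]
        ring
      rw [h2', pow_succ, pow_mul, he, one_pow, one_mul]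
  have hhalf : ∀ r : ℕ, n ∣ i * r → Commute (g ^ r) e := by
    intro r hr
    obtain ⟨l, hl⟩ := hr
    have h : Commute (g ^ (2 * r)) e := by
      show _ = _
      rw [hiter2, show i * (2 * r) = 2 * n * l by rw [mul_left_comm, hl]; ring, heper]
    obtain ⟨N, hN⟩ := hNodd
    have : g ^ r = (g ^ (2 * r)) ^ (N + 1) := by
      rw [← pow_mul, show 2 * r * (N + 1) = (2 ^ n - 1) * r + r by rw [hN]; ring, pow_add, pow_mul,
        hg, one_pow, one_mul]
    rw [this]
    exact h.pow_left _
  set d := Nat.gcd i n with hd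
  have hd0 : 0 < d := Nat.gcd_pos_of_pos_right _ (by omega)
  obtain ⟨r, hr⟩ : d ∣ n := Nat.gcd_dvd_right _ _
  obtain ⟨i', hi'⟩ : d ∣ i := Nat.gcd_dvd_left _ _
  have hdvd : n ∣ i * r := ⟨i', by rw [hi', hr]; ring⟩
  let y : K := ⟨g ^ r, (hmemK _).2 (hhalf r hdvd).symm⟩
  have hy1 : y ^ 2 ^ i = y := by
    rw [← hσ]
    refine Subtype.ext ?_
    show g * g ^ r * g' = g ^ r
    rw [(Commute.self_pow g r).eq, mul_assoc, hgg', mul_one]
  have hy2 : y ^ 2 ^ n = y := by
    refine Subtype.ext ?_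
    rw [SubmonoidClass.coe_pow]
    show (g ^ r) ^ 2 ^ n = g ^ r
    rw [← pow_mul, show r * 2 ^ n = (2 ^ n - 1) * r + r by
      rw [Nat.sub_mul, one_mul, Nat.sub_add_cancel (Nat.le_mul_of_pos_left r (Nat.two_pow_pos n)),
        mul_comm],
      pow_add, pow_mul, hg, one_pow, one_mul]
  have hy3 : y ^ 2 ^ d = y := by
    have hper : ∀ j : ℕ, y ^ 2 ^ j = y → Function.IsPeriodicPt (fun x : K => x ^ 2) j y := by
      intro j hj
      show (fun x : K => x ^ 2)^[j] y = y
      rwa [pow_iterate]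
    have h := (hper i hy1).gcd (hper n hy2)
    rw [← hd] at h
    have h' : (fun x : K => x ^ 2)^[d] y = y := h
    rwa [pow_iterate] at h'
  have hy4 : g ^ (r * (2 ^ d - 1)) = 1 := by
    have h := congrArg Subtype.val hy3
    rw [SubmonoidClass.coe_pow] at h
    change (g ^ r) ^ 2 ^ d = g ^ r at h
    rw [pow_mul]
    have h1 : (g ^ r) ^ (2 ^ d - 1) * g ^ r = 1 * g ^ r := by
      rw [← pow_succ, Nat.sub_add_cancel Nat.one_le_two_pow, h, one_mul]
    have h5 := congrArg (fun x => x * g' ^ r) h1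
    simp only [mul_assoc] at h5
    rwa [← (show Commute g g' by rw [hg']; exact Commute.self_pow g _).mul_pow, hgg', one_pow,
      mul_one, mul_one] at h5
  have hr1 : r = 1 := by
    by_contra hc
    have hr2 : 2 ≤ r := by
      rcases r with _ | _ | r
      · omega
      · exact absurd rfl hc
      · omega
    have hlt := mul_pred_lt hd0 r hr2
    rw [← hr] at hlt
    have hpos : 0 < r * (2 ^ d - 1) := by
      have : 2 ≤ 2 ^ d := Nat.le_self_pow (by omega) 2
      exact Nat.mul_pos (by omega) (by omega)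
    have := Nat.le_of_dvd hpos (hgord _ hy4)
    omega
  have := hhalf 1 (hr1 ▸ hdvd)
  rwa [pow_one] at this

end Cfsg.Agent.PGU3Char
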