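import Cfsg.Agent.Lib.PGU3Char.Setup
import Cfsg.Agent.Lib.PGU3Char.Singer
import Cfsg.Agent.Lib.Bender.Sharp

/-!
# Regularity of the Sylow 2-subgroup on the other points

* `Ctx.exists_generator` : `N(Z) / C` is cyclic
* `Ctx.comm_e` : `N(Z)` centralises `C / S`
* `Ctx.index_eq` : `N(Z)` has index `q³ + 1`
-/

set_option autoImplicit false
set_option linter.style.haveILetI false
set_option linter.unusedSectionVars false

namespace Cfsg.Agent.PGU3Char

open Cfsg Cfsg.Agent.Involution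
open scoped Pointwise

variable {G : Type*} [Group G] [Finite G] {q : ℕ} {z : G} {Z S : Subgroup G} {e : G}

namespace Ctx

variable (X : Ctx q z Z S e)
include X

local notation "CC" => Subgroup.centralizer (Singleton.singleton z : Set G)
local notation "HH" => Subgroup.normalizer (Z : Set G)
local notation "o" => ((1 : G) : G ⧸ Subgroup.normalizer (Z : Set G))

theorem normal_cc : ((CC).subgroupOf HH).Normal :=
  ⟨fun c hc g => X.conj_CC g.2 hc⟩

theorem pow_pred_mem {h : G} (hh : h ∈ HH) : h ^ (q - 1) ∈ CC := by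
  haveI := X.normal_cc
  have hidx : ((CC).subgroupOf HH).index = q - 1 := by
    have h1 := Subgroup.card_mul_index ((CC).subgroupOf HH)
    rw [Nat.card_congr (Subgroup.subgroupOfEquivOfLe X.cc_le).toEquiv, X.shape.card_C, X.card_H,
      mul_comm (q - 1)] at h1
    exact Nat.eq_of_mul_eq_mul_left (Nat.mul_pos (pow_pos (by linarith [X.four_le]) 3) (Nat.succ_pos q)) h1
  have := Subgroup.pow_index_mem ((CC).subgroupOf HH) ⟨h, hh⟩
  rwa [hidx] at this

theorem stab_o : MulAction.stabilizer G o = HH := MulAction.stabilizer_quotient _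

theorem odd_D {b : G ⧸ HH} (hb : b ≠ o) : Odd (Nat.card ↥(HH ⊓ MulAction.stabilizer G b)) := by
  have h := odd_two_point X.isSE (x := o) (y := b) hb.symm
  rwa [X.stab_o] at h

theorem card_D {b : G ⧸ HH} (hb : b ≠ o) : Nat.card ↥(HH ⊓ MulAction.stabilizer G b) =
    (q - 1) * Nat.card ↥(HH ⊓ MulAction.stabilizer G b ⊓ CC) :=
  X.card_HK _ inf_le_left fun _ hx hx1 => X.trans_Z hb hx hx1

theorem card_D_cc_dvd {b : G ⧸ HH} (hb : b ≠ o) :
    Nat.card ↥(HH ⊓ MulAction.stabilizer G b ⊓ CC) ∣ q + 1 := by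
  have hd : Nat.card ↥(HH ⊓ MulAction.stabilizer G b ⊓ CC) ∣ q ^ 3 * (q + 1) :=
    X.shape.card_C ▸ Subgroup.card_dvd_of_le inf_le_right
  refine Nat.Coprime.dvd_of_dvd_mul_left ?_ hd
  have hodd : Odd (Nat.card ↥(HH ⊓ MulAction.stabilizer G b ⊓ CC)) :=
    Odd.of_dvd_nat (X.odd_D hb) (Subgroup.card_dvd_of_le inf_le_left)
  obtain ⟨n, rfl⟩ := X.q_pow
  rw [← pow_mul]
  exact Nat.Coprime.pow_right _ (Nat.prime_two.coprime_iff_not_dvd.2
    (by rw [Nat.two_dvd_ne_zero]; exact Nat.odd_iff.1 hodd)).symm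

theorem pt_eq {x : G} (hx : x ∈ Z) (hx1 : x ≠ 1) : Bender.fixPt HH x = o :=
  (((Bender.pointClass_of_stronglyEmbedded X.isSE).fixed_iff x (X.ord_of_mem hx hx1) o).1
    (X.smul_o.2 (X.cc_le (X.shape.Z_le_C hx)))).symm

theorem inverted {t : G} (ht : orderOf t = 2) (htb : t • o ≠ o) {h : G} (hh : h ∈ HH) :
    ∃ k ∈ HH ⊓ MulAction.stabilizer G (t • o), t * k * t⁻¹ = k⁻¹ ∧ k⁻¹ * h ∈ CC := by
  have P := Bender.pointClass_of_stronglyEmbedded X.isSE
  have hw : h * z * h⁻¹ ∈ Z := X.conj_Z hh X.z_mem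
  have hw1 : h * z * h⁻¹ ≠ 1 := fun e => ne_one X.ord_z (by
    rwa [mul_inv_eq_one, mul_eq_left] at e)
  obtain ⟨k, ⟨⟨hk, hinv⟩, hkz⟩, -⟩ := Bender.existsUnique_inverted_conj P
    (fun x y hxy => odd_two_point X.isSE hxy) ht rfl htb.symm
    X.ord_z (X.pt_eq X.z_mem (ne_one X.ord_z)) (w := h * z * h⁻¹)
    (X.ord_of_mem hw hw1) (X.pt_eq hw hw1)
  refine ⟨k, ⟨X.smul_o.1 (MulAction.mem_stabilizer_iff.1 hk.1), hk.2⟩, hinv,
    mem_centralizer_iff_commute.2 ?_⟩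
  show k⁻¹ * h * z = z * (k⁻¹ * h)
  calc k⁻¹ * h * z = k⁻¹ * (h * z * h⁻¹) * h := by group
    _ = z * (k⁻¹ * h) := by rw [← hkz]; group

theorem comm_quot {h₁ h₂ : G} (hh₁ : h₁ ∈ HH) (hh₂ : h₂ ∈ HH) :
    (h₂ * h₁)⁻¹ * (h₁ * h₂) ∈ CC := by
  obtain ⟨t, ht, -, htb⟩ := X.exists_point
  haveI := X.normal_cc
  obtain ⟨k₁, hk₁, i₁, c₁⟩ := X.inverted ht htb hh₁
  obtain ⟨k₂, hk₂, i₂, c₂⟩ := X.inverted ht htb hh₂
  have hd := Subgroup.mul_mem _ hk₁ hk₂
  obtain ⟨k₃, hk₃, i₃, c₃⟩ := X.inverted ht htb hd.1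
  set Q : Subgroup HH := (CC).subgroupOf HH with hQ
  let π : HH →* HH ⧸ Q := QuotientGroup.mk' Q
  have hk : ∀ (k h : G) (hk : k ∈ HH) (hh : h ∈ HH), k⁻¹ * h ∈ CC → π ⟨k, hk⟩ = π ⟨h, hh⟩ :=
    fun k h hk hh hc => QuotientGroup.eq.2 hc
  have e₁ := hk k₁ h₁ hk₁.1 hh₁ c₁
  have e₂ := hk k₂ h₂ hk₂.1 hh₂ c₂
  have e₃ := hk k₃ (k₁ * k₂) hk₃.1 hd.1 c₃
  have hm : k₃⁻¹ * (k₁ * k₂) ∈ HH ⊓ MulAction.stabilizer G (t • o) ⊓ CC :=
    ⟨Subgroup.mul_mem _ (Subgroup.inv_mem _ hk₃) hd, c₃⟩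
  set m := k₃⁻¹ * (k₁ * k₂)
  have hm' : t * m * t⁻¹ = k₃ * (k₁⁻¹ * k₂⁻¹) := by
    have i₃' : t * k₃⁻¹ * t⁻¹ = k₃ := by
      rw [show t * k₃⁻¹ * t⁻¹ = (t * k₃ * t⁻¹)⁻¹ by group, i₃, inv_inv]
    calc t * (k₃⁻¹ * (k₁ * k₂)) * t⁻¹
        = (t * k₃⁻¹ * t⁻¹) * ((t * k₁ * t⁻¹) * (t * k₂ * t⁻¹)) := by group
      _ = _ := by rw [i₃', i₁, i₂]
  have hmH : t * m * t⁻¹ ∈ HH := by
    rw [hm']
    exact Subgroup.mul_mem _ hk₃.1 (Subgroup.mul_mem _ (Subgroup.inv_mem _ hk₁.1)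
      (Subgroup.inv_mem _ hk₂.1))
  have hpow : m ^ (q + 1) = 1 := orderOf_dvd_iff_pow_eq_one.1
    ((Subgroup.orderOf_dvd_natCard _ hm).trans (X.card_D_cc_dvd htb))
  have hcc : t * m * t⁻¹ ∈ CC := by
    have h1 : π ⟨_, hmH⟩ = 1 := by
      rw [← orderOf_eq_one_iff]
      refine Nat.eq_one_of_dvd_coprimes X.cop_q ?_ ?_ <;>
        rw [orderOf_dvd_iff_pow_eq_one, ← map_pow]
      · refine (congrArg π (Subtype.ext ?_ : (⟨_, hmH⟩ : HH) ^ (q + 1) = 1)).trans (map_one π)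
        show (t * m * t⁻¹) ^ (q + 1) = 1
        rw [conj_pow, hpow, mul_one, mul_inv_cancel]
      · exact (QuotientGroup.eq_one_iff _).2 (X.pow_pred_mem hmH)
    exact (QuotientGroup.eq_one_iff (⟨_, hmH⟩ : HH)).1 h1
  have h4 : π ⟨k₃, hk₃.1⟩ * ((π ⟨k₁, hk₁.1⟩)⁻¹ * (π ⟨k₂, hk₂.1⟩)⁻¹) = 1 := by
    rw [← map_inv, ← map_inv, ← map_mul, ← map_mul]
    refine (QuotientGroup.eq_one_iff _).2 ?_
    show k₃ * (k₁⁻¹ * k₂⁻¹) ∈ CC
    rwa [← hm']
  have e₃' : π ⟨k₃, hk₃.1⟩ = π ⟨k₁, hk₁.1⟩ * π ⟨k₂, hk₂.1⟩ := by rw [e₃, ← map_mul]; rfl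
  rw [e₃', e₁, e₂, ← mul_inv_rev, mul_inv_eq_one] at h4
  have h5 : π (⟨h₂, hh₂⟩ * ⟨h₁, hh₁⟩) = π (⟨h₁, hh₁⟩ * ⟨h₂, hh₂⟩) := by
    rw [map_mul, map_mul]; exact h4.symm
  exact (QuotientGroup.eq.1 h5 :
    ((⟨h₂, hh₂⟩ * ⟨h₁, hh₁⟩)⁻¹ * (⟨h₁, hh₁⟩ * ⟨h₂, hh₂⟩) : HH) ∈ Q)

/-- `N(Z) / C` is cyclic. -/
theorem exists_generator : ∃ g ∈ HH, ∀ h ∈ HH, ∃ k : ℕ, (g ^ k)⁻¹ * h ∈ CC := by
  haveI := X.normal_cc
  obtain ⟨t, -, -, htb⟩ := X.exists_point
  letI : CommGroup Z :=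
    { (inferInstance : Group Z) with
      mul_comm := fun a b => Subtype.ext (X.shape.central _ a.2 _ (X.shape.Z_le_C b.2)).eq }
  let f : HH →* AddMonoid.End (Additive Z) :=
    { toFun := fun g => MonoidHom.toAdditive (MonoidHom.mk' (fun x : Z =>
        (⟨g * x * (g : G)⁻¹, X.conj_Z g.2 x.2⟩ : Z)) fun x y => Subtype.ext (by
          show (g : G) * (x * y) * (g : G)⁻¹ = g * x * (g : G)⁻¹ * (g * y * (g : G)⁻¹)
          group))
      map_one' := DFunLike.ext _ _ fun v => Additive.toMul.injective (Subtype.ext (by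
        show ((1 : HH) : G) * (Additive.toMul v : Z) * ((1 : HH) : G)⁻¹ = (Additive.toMul v : Z)
        simp))
      map_mul' := fun g g' => DFunLike.ext _ _ fun v => Additive.toMul.injective (Subtype.ext (by
        show ((g * g' : HH) : G) * (Additive.toMul v : Z) * ((g * g' : HH) : G)⁻¹ =
          g * (g' * (Additive.toMul v : Z) * (g' : G)⁻¹) * (g : G)⁻¹
        rw [Subgroup.coe_mul]; group)) }
  have hf : ∀ (g : HH) (x : Z),
      ((Additive.toMul (f g (Additive.ofMul x)) : Z) : G) = g * x * (g : G)⁻¹ := fun g x => rfl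
  have hker : ∀ g : HH, f g = 1 ↔ g ∈ (CC).subgroupOf HH := by
    intro g
    rw [Subgroup.mem_subgroupOf]
    constructor
    · intro hg
      have h := hf g ⟨z, X.z_mem⟩
      rw [hg] at h
      exact mem_centralizer_iff_commute.2 (show (g : G) * z = z * g from
        mul_inv_eq_iff_eq_mul.1 h.symm)
    · intro hg
      refine DFunLike.ext _ _ fun v => Additive.toMul.injective (Subtype.ext ?_)
      show (g : G) * (Additive.toMul v : Z) * (g : G)⁻¹ = (Additive.toMul v : Z)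
      rw [← (X.shape.central _ (Additive.toMul v).2 _ hg).eq, mul_inv_cancel_right]
  let A := HH ⧸ (CC).subgroupOf HH
  let fA : A →* AddMonoid.End (Additive Z) :=
    QuotientGroup.lift _ f fun g hg => (hker g).2 hg
  have hinj : Function.Injective fA := by
    intro a b hab
    induction a using QuotientGroup.induction_on with | _ a =>
    induction b using QuotientGroup.induction_on with | _ b =>
    rw [QuotientGroup.eq, ← hker, map_mul]
    have hab' : f a = f b := hab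
    rw [← hab', ← map_mul, inv_mul_cancel, map_one]
  haveI : Nontrivial (Additive Z) :=
    ⟨⟨0, Additive.ofMul ⟨z, X.z_mem⟩, fun h => ne_one X.ord_z (congrArg Subtype.val h).symm⟩⟩
  have htr : ∀ v w : Additive Z, v ≠ 0 → w ≠ 0 → ∃ a, fA a v = w := by
    have key : ∀ x : Z, x ≠ 1 → ∃ g : HH, f g (Additive.ofMul ⟨z, X.z_mem⟩) = Additive.ofMul x := by
      intro x hx
      obtain ⟨d, hd, e⟩ := X.trans_Z htb x.2 fun h => hx (Subtype.ext h)
      exact ⟨⟨d, hd.1⟩, Additive.toMul.injective (Subtype.ext e)⟩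
    intro v w hv hw
    obtain ⟨g, hg⟩ := key (Additive.toMul v) (fun h => hv (congrArg Additive.ofMul h))
    obtain ⟨g', hg'⟩ := key (Additive.toMul w) (fun h => hw (congrArg Additive.ofMul h))
    refine ⟨QuotientGroup.mk (g' * g⁻¹), ?_⟩
    show f (g' * g⁻¹) v = w
    have hv' : f g (Additive.ofMul ⟨z, X.z_mem⟩) = v := hg
    rw [← hv']
    show (f (g' * g⁻¹) * f g) (Additive.ofMul ⟨z, X.z_mem⟩) = w
    rw [← map_mul, inv_mul_cancel_right]
    exact hg'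
  have hcyc : IsCyclic A := isCyclic_of_transitive (fun a b => by
    induction a using QuotientGroup.induction_on with | _ a =>
    induction b using QuotientGroup.induction_on with | _ b =>
    rw [← QuotientGroup.mk_mul, ← QuotientGroup.mk_mul, eq_comm, QuotientGroup.eq]
    exact X.comm_quot a.2 b.2) fA hinj htr
  obtain ⟨γ, hγ⟩ := hcyc.exists_generator
  obtain ⟨g, rfl⟩ := QuotientGroup.mk_surjective γ
  refine ⟨g, g.2, fun h hh => ?_⟩
  obtain ⟨k, hk⟩ := (mem_powers_iff_mem_zpowers.2 (hγ (QuotientGroup.mk ⟨h, hh⟩)) :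
    _ ∈ Submonoid.powers _)
  refine ⟨k, ?_⟩
  exact (QuotientGroup.eq.1 ((QuotientGroup.mk_pow _ g k).trans hk) :
    ((g ^ k)⁻¹ * ⟨h, hh⟩ : HH) ∈ (CC).subgroupOf HH)

theorem exists_sqrt {x : G} (hx : x ∈ Z) (hx1 : x ≠ 1) : ∃ s ∈ S, s * s = x := by
  obtain ⟨t, -, -, htb⟩ := X.exists_point
  obtain ⟨s, hs, hsZ⟩ := X.shape.exists_not_mem X.two_le
  have hw : s * s ∈ Z := X.shape.sq_mem s hs
  have hw1 : s * s ≠ 1 := fun h => hsZ (X.shape.inv_mem s (X.shape.S_le hs) h)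
  obtain ⟨d, hd, e₁⟩ := X.trans_Z htb hx hx1
  obtain ⟨d', hd', e₂⟩ := X.trans_Z htb hw hw1
  have hh : d * d'⁻¹ ∈ HH := Subgroup.mul_mem _ hd.1 (Subgroup.inv_mem _ hd'.1)
  refine ⟨(d * d'⁻¹) * s * (d * d'⁻¹)⁻¹, X.conj_S hh hs, ?_⟩
  calc d * d'⁻¹ * s * (d * d'⁻¹)⁻¹ * (d * d'⁻¹ * s * (d * d'⁻¹)⁻¹)
      = d * d'⁻¹ * (s * s) * (d * d'⁻¹)⁻¹ := by group
    _ = x := by rw [← e₁, ← e₂]; group

/-- `N(Z)` centralises `C / S`. -/
theorem comm_e {h : G} (hh : h ∈ HH) : h * e * h⁻¹ * e⁻¹ ∈ S := by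
  obtain ⟨n, hn⟩ := X.q_pow
  have hn1 : 1 ≤ n := by
    rcases n with _ | n
    · have := X.four_le; simp [hn] at this
    · omega
  obtain ⟨g₀, hg₀, hgen⟩ := X.exists_generator
  haveI hZn : (Z.subgroupOf S).Normal := ⟨fun x hx s => by
    show (s : G) * x * (s : G)⁻¹ ∈ Z
    rw [← (X.shape.central _ (show (x : G) ∈ Z from hx) _ (X.shape.S_le s.2)).eq, mul_inv_cancel_right]
    exact hx⟩
  letI : CommGroup (S ⧸ Z.subgroupOf S) :=
    { (inferInstance : Group (S ⧸ Z.subgroupOf S)) with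
      mul_comm := fun a b => by
        induction a using QuotientGroup.induction_on with | _ a =>
        induction b using QuotientGroup.induction_on with | _ b =>
        rw [← QuotientGroup.mk_mul, ← QuotientGroup.mk_mul, QuotientGroup.eq]
        show ((a : G) * b)⁻¹ * (b * a) ∈ Z
        have := X.shape.comm_mem (S.inv_mem b.2) (S.inv_mem a.2)
        rwa [inv_inv, inv_inv, mul_assoc, ← mul_inv_rev] at this }
  set ρ := secAct HH S Z (fun g hg s hs => X.conj_S hg hs) (fun g hg x hx => X.conj_Z hg hx) with hρ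
  have hρfix : ∀ (g : HH) (s : S),
      ρ g (Additive.ofMul (QuotientGroup.mk s)) = Additive.ofMul (QuotientGroup.mk s) ↔
        (g : G) * s * (g : G)⁻¹ * (s : G)⁻¹ ∈ Z := fun g s => secAct_eq_iff _ _ g s
  have hρ1 : ∀ g : HH, ρ g = 1 ↔ ∀ s ∈ S, (g : G) * s * (g : G)⁻¹ * s⁻¹ ∈ Z := by
    intro g
    constructor
    · intro hg s hs
      exact (hρfix g ⟨s, hs⟩).1 (by rw [hg]; rfl)
    · intro hg
      refine DFunLike.ext _ _ fun v => ?_
      induction v using Additive.rec with | _ v =>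
      induction v using QuotientGroup.induction_on with | _ s =>
      exact (hρfix g s).2 (hg s s.2)
  have hρS : ∀ (s : G) (hs : s ∈ S), ρ ⟨s, X.cc_le (X.shape.S_le hs)⟩ = 1 := fun s hs =>
    (hρ1 _).2 fun v hv => X.shape.comm_mem hs hv
  set eH : HH := ⟨e, X.cc_le X.shape.e_mem⟩
  set E := ρ eH
  have hE : E ^ (2 ^ n + 1) = 1 := by
    rw [← map_pow, show eH ^ (2 ^ n + 1) = 1 from Subtype.ext (hn ▸ X.shape.pow_e), map_one]
  have hfpf : ∀ (k : ℕ) (v : Additive (S ⧸ Z.subgroupOf S)), v ≠ 0 → (E ^ k) v = v →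
      2 ^ n + 1 ∣ k := by
    intro k v
    induction v using Additive.rec with | _ v =>
    induction v using QuotientGroup.induction_on with | _ s =>
    intro hv hk
    rw [← hn]
    rw [← map_pow] at hk
    exact X.shape.fpf k s s.2 (fun h => hv (congrArg Additive.ofMul ((QuotientGroup.eq_one_iff s).2 h)))
      ((hρfix _ s).1 hk)
  have hV2 : ∀ v : Additive (S ⧸ Z.subgroupOf S), v + v = 0 := by
    intro v
    induction v using Additive.rec with | _ v =>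
    induction v using QuotientGroup.induction_on with | _ s =>
    exact congrArg Additive.ofMul ((QuotientGroup.eq_one_iff (s * s)).2 (X.shape.sq_mem s s.2))
  have hcard : Nat.card (Additive (S ⧸ Z.subgroupOf S)) = 2 ^ (2 * n) := by
    have h1 := Subgroup.card_eq_card_quotient_mul_card_subgroup (Z.subgroupOf S)
    rw [X.shape.card_S, Nat.card_congr (Subgroup.subgroupOfEquivOfLe X.shape.Z_le).toEquiv,
      X.shape.card_Z, pow_succ] at h1
    rw [Nat.card_congr Additive.toMul, ← Nat.eq_of_mul_eq_mul_right (by linarith [X.four_le]) h1,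
      hn, ← pow_mul, mul_comm]
  haveI : Nontrivial (Additive (S ⧸ Z.subgroupOf S)) :=
    Finite.one_lt_card_iff_nontrivial.1 (by rw [hcard]; exact Nat.one_lt_two_pow (by omega))
  -- images of `C` are powers of `E`
  have hC : ∀ (c : G) (hc : c ∈ CC), ∃ k : ℕ, ρ ⟨c, X.cc_le hc⟩ = E ^ k := by
    intro c hc
    obtain ⟨s, hs, k, rfl⟩ := X.shape.decomp X.two_le hc
    refine ⟨k, ?_⟩
    rw [show (⟨s * e ^ k, X.cc_le hc⟩ : HH) = ⟨s, X.cc_le (X.shape.S_le hs)⟩ * eH ^ k from rfl,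
      map_mul, map_pow, hρS s hs, one_mul]
  set g := (⟨g₀, hg₀⟩ : HH) ^ (q + 1) with hgdef
  have hgpow : ρ g ^ (2 ^ n - 1) = 1 := by
    obtain ⟨k, hk⟩ := hC _ (X.pow_pred_mem hg₀)
    have : ρ ⟨g₀, hg₀⟩ ^ (q - 1) = E ^ k := by rw [← map_pow]; exact hk
    rw [← hn, hgdef, map_pow, ← pow_mul, mul_comm (q + 1), pow_mul, this, ← pow_mul, mul_comm k,
      pow_mul, hn, hE, one_pow]
  have hgord : ∀ k : ℕ, ρ g ^ k = 1 → 2 ^ n - 1 ∣ k := by
    intro k hk
    rw [← map_pow, hρ1] at hk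
    set w := g₀ ^ ((q + 1) * k) with hw
    have hgw : ((g ^ k : HH) : G) = w := by
      rw [hgdef, ← pow_mul, SubgroupClass.coe_pow]
    rw [hgw] at hk
    have hwC : w ∈ CC := by
      obtain ⟨s, hs, hss⟩ := X.exists_sqrt X.z_mem (ne_one X.ord_z)
      have h1 := hk s hs
      set u := w * s * w⁻¹ * s⁻¹
      have hsu : w * s * w⁻¹ = u * s := by simp only [u]; group
      refine mem_centralizer_iff_commute.2 (show w * z = z * w from mul_inv_eq_iff_eq_mul.1 ?_)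
      calc w * z * w⁻¹ = (w * s * w⁻¹) * (w * s * w⁻¹) := by rw [← hss]; group
        _ = (u * u) * (s * s) := by
            rw [hsu, mul_assoc, ← mul_assoc s u s, ← (X.shape.central _ h1 _ (X.shape.S_le hs)).eq]
            group
        _ = z := by rw [X.shape.sq_one _ h1, hss, one_mul]
    -- `g₀` generates the quotient of order `q - 1`
    rw [← hn]
    haveI := X.normal_cc
    set Q : Subgroup HH := (CC).subgroupOf HH
    let π : HH →* HH ⧸ Q := QuotientGroup.mk' Q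
    have hord : orderOf (π ⟨g₀, hg₀⟩) = q - 1 := by
      have hidx : Nat.card (HH ⧸ Q) = q - 1 := by
        have h1 := Subgroup.card_eq_card_quotient_mul_card_subgroup Q
        rw [Nat.card_congr (Subgroup.subgroupOfEquivOfLe X.cc_le).toEquiv, X.shape.card_C,
          X.card_H] at h1
        exact (Nat.eq_of_mul_eq_mul_right (Nat.mul_pos (pow_pos (by linarith [X.four_le]) 3)
          (Nat.succ_pos q)) h1).symm
      rw [← hidx]
      refine orderOf_eq_card_of_forall_mem_zpowers fun x => ?_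
      induction x using QuotientGroup.induction_on with | _ h =>
      obtain ⟨j, hj⟩ := hgen h h.2
      refine ⟨j, ?_⟩
      show π ⟨g₀, hg₀⟩ ^ (j : ℤ) = π h
      rw [zpow_natCast, ← map_pow]
      exact QuotientGroup.eq.2 hj
    have hdvd : q - 1 ∣ (q + 1) * k := by
      rw [← hord, orderOf_dvd_iff_pow_eq_one, ← map_pow]
      exact (QuotientGroup.eq_one_iff _).2 (show (((⟨g₀, hg₀⟩ : HH) ^ ((q + 1) * k) : HH) : G) ∈ CC by
        rw [SubgroupClass.coe_pow]; exact hwC)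
    exact X.cop_q.symm.dvd_of_dvd_mul_left hdvd
  obtain ⟨m, hm⟩ := hC _ (X.conj_CC g.2 X.shape.e_mem)
  have hm' : ρ g * E = E ^ m * ρ g := by
    have : g * eH = (⟨(g : G) * e * (g : G)⁻¹, X.cc_le (X.conj_CC g.2 X.shape.e_mem)⟩ : HH) * g :=
      Subtype.ext (by show (g : G) * e = (g : G) * e * (g : G)⁻¹ * g; group)
    rw [← map_mul, this, map_mul, hm]
  have hcomm := commute_of_normalizes hn1 hV2 hcard hE hfpf hgpow hgord hm'
  -- all of `H` centralises `E`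
  obtain ⟨k', hk'⟩ := hC _ (X.pow_pred_mem hg₀)
  have hg₀' : Commute (ρ ⟨g₀, hg₀⟩) E := by
    obtain ⟨l, hl⟩ := X.even_q
    have h1 : g ^ l = (⟨g₀ ^ (q - 1), X.cc_le (X.pow_pred_mem hg₀)⟩ : HH) ^ (l + 1) * ⟨g₀, hg₀⟩ := by
      refine Subtype.ext ?_
      rw [hgdef, ← pow_mul, Subgroup.coe_mul, SubgroupClass.coe_pow, SubgroupClass.coe_pow]
      show g₀ ^ ((q + 1) * l) = (g₀ ^ (q - 1)) ^ (l + 1) * g₀
      rw [← pow_mul, ← pow_succ]
      congr 1
      obtain ⟨l', rfl⟩ : ∃ l', l = l' + 1 := ⟨l - 1, by have := X.four_le; omega⟩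
      rw [hl, show l' + 1 + (l' + 1) - 1 = 2 * l' + 1 by omega]
      ring
    have h2 := congrArg ρ h1
    rw [map_mul, map_pow ρ g, map_pow ρ (⟨g₀ ^ (q - 1), X.cc_le (X.pow_pred_mem hg₀)⟩ : HH), hk',
      ← pow_mul] at h2
    set M := k' * (l + 1)
    have h3 : ρ ⟨g₀, hg₀⟩ = E ^ (M * 2 ^ n) * ρ g ^ l := by
      rw [h2, ← mul_assoc, ← pow_add, show M * 2 ^ n + M = (2 ^ n + 1) * M by ring, pow_mul, hE,
        one_pow, one_mul]
    rw [h3]
    exact (Commute.pow_self E _).mul_left (hcomm.pow_left l)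
  have hall : Commute (ρ ⟨h, hh⟩) E := by
    obtain ⟨j, hj⟩ := hgen h hh
    obtain ⟨k, hk⟩ := hC _ hj
    have h1 : (⟨h, hh⟩ : HH) = (⟨g₀, hg₀⟩ : HH) ^ j * ⟨(g₀ ^ j)⁻¹ * h, X.cc_le hj⟩ :=
      Subtype.ext (by rw [Subgroup.coe_mul, SubgroupClass.coe_pow, mul_inv_cancel_left])
    rw [h1, map_mul, map_pow, hk]
    exact (hg₀'.pow_left j).mul_left (Commute.pow_self E k)
  have hf : ρ (⟨h, hh⟩ * eH * (eH * ⟨h, hh⟩)⁻¹) = 1 := by
    have h1 : ρ (⟨h, hh⟩ * eH) = ρ (eH * ⟨h, hh⟩) := by rw [map_mul, map_mul]; exact hall.eq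
    rw [map_mul ρ (⟨h, hh⟩ * eH), h1, ← map_mul, mul_inv_cancel, map_one]
  refine X.shape.mem_S_of_fix X.two_le
    (Subgroup.mul_mem _ (X.conj_CC hh X.shape.e_mem) (Subgroup.inv_mem _ X.shape.e_mem))
    fun s hs => ?_
  · have := (hρ1 _).1 hf s hs
    rw [Subgroup.coe_mul, Subgroup.coe_mul, Subgroup.coe_inv, Subgroup.coe_mul] at this
    rwa [show h * e * (e * h)⁻¹ = h * e * h⁻¹ * e⁻¹ by group] at this

/-- A point other than the base one is only fixed by elements of `C` of order dividing `|D ∩ C|`. -/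
theorem dvd_of_fix {t : G} (htb : t • o ≠ o) {w : G} (hw : w ∈ CC) {x : G ⧸ HH} (hx : x ≠ o)
    (hwx : w • x = x) :
    orderOf w ∣ Nat.card ↥(HH ⊓ MulAction.stabilizer G (t • o) ⊓ CC) := by
  obtain ⟨h, hh, rfl⟩ := X.transitive htb hx
  have h1 : h⁻¹ * w * h ∈ CC := by
    simpa using X.conj_CC (Subgroup.inv_mem _ hh) hw
  have h2 : (h⁻¹ * w * h) • (t • o) = t • o := by
    rw [mul_smul, mul_smul, hwx, inv_smul_smul]
  have hm : h⁻¹ * w * h ∈ HH ⊓ MulAction.stabilizer G (t • o) ⊓ CC :=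
    ⟨⟨X.cc_le h1, MulAction.mem_stabilizer_iff.2 h2⟩, h1⟩
  have := Subgroup.orderOf_dvd_natCard _ hm
  rwa [show h⁻¹ * w * h = h⁻¹ * w * h⁻¹⁻¹ by rw [inv_inv], Involution.orderOf_conj] at this

theorem index_mul {t : G} (htb : t • o ≠ o) :
    (Nat.card (G ⧸ HH) - 1) * Nat.card ↥(HH ⊓ MulAction.stabilizer G (t • o) ⊓ CC) =
      q ^ 3 * (q + 1) := by
  have h1 := card_of_transitive HH le_rfl htb fun x hx => X.transitive htb hx
  rw [X.card_H, X.card_D htb] at h1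
  refine Nat.eq_of_mul_eq_mul_left (show 0 < q - 1 by have := X.four_le; omega) ?_
  rw [h1]; ring

/-- `D ∩ C` has order `q + 1`. -/
theorem card_D_cc {t : G} (htb : t • o ≠ o) :
    Nat.card ↥(HH ⊓ MulAction.stabilizer G (t • o) ⊓ CC) = q + 1 := by
  set m := Nat.card ↥(HH ⊓ MulAction.stabilizer G (t • o) ⊓ CC) with hm
  obtain ⟨c, hc⟩ := X.card_D_cc_dvd htb
  rw [← hm] at hc
  by_contra hne
  have hq1 : 0 < q + 1 := Nat.succ_pos q
  have hc1 : c ≠ 1 := fun h => hne (by rw [hc, h, mul_one])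
  obtain ⟨p, hp, hpc⟩ := Nat.exists_prime_and_dvd hc1
  haveI : Fact p.Prime := ⟨hp⟩
  have hpq : p ∣ q + 1 := hc ▸ dvd_mul_of_dvd_right hpc m
  set a := (q + 1).factorization p with ha
  obtain ⟨r, hr⟩ : p ^ a ∣ q + 1 := Nat.ordProj_dvd (q + 1) p
  have hr0 : 0 < r := Nat.pos_of_ne_zero fun h => by rw [h, mul_zero] at hr; omega
  have hpr : ¬ p ∣ r := fun hd => Nat.pow_succ_factorization_not_dvd hq1.ne' hp
    (by rw [pow_succ, ← ha, hr]; exact Nat.mul_dvd_mul_left _ hd)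
  have hpm : ¬ p ^ a ∣ m := fun hd => Nat.pow_succ_factorization_not_dvd hq1.ne' hp
    (by rw [pow_succ, ← ha, hc]; exact Nat.mul_dvd_mul hd hpc)
  set w := e ^ r with hw
  have hwC : w ∈ CC := Subgroup.pow_mem _ X.shape.e_mem r
  have hword : orderOf w = p ^ a := by
    rw [hw, orderOf_pow' _ hr0.ne', X.shape.orderOf_e X.two_le, Nat.gcd_eq_right ⟨p ^ a, by
      rw [hr, mul_comm]⟩]
    exact Nat.div_eq_of_eq_mul_left hr0 hr
  have hp2 : p ≠ 2 := by
    rintro rfl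
    have := X.even_q
    rw [Nat.even_iff] at this
    omega
  set N := Nat.card (G ⧸ HH) - 1 with hN
  have hNc : N = q ^ 3 * c := by
    have h := X.index_mul htb
    rw [← hm, hc, ← hN] at h
    have hm0 : 0 < m := Nat.card_pos
    refine Nat.eq_of_mul_eq_mul_right hm0 ?_
    rw [h]; ring
  have hΩ : Nat.card (G ⧸ HH) = N + 1 := by
    have : 0 < Nat.card (G ⧸ HH) := Nat.card_pos
    omega
  -- `⟨w⟩` is a Sylow subgroup
  have hWp : IsPGroup p (Subgroup.zpowers w) := IsPGroup.of_card (n := a) (by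
    rw [Nat.card_zpowers, hword])
  have hidx : ¬ p ∣ (Subgroup.zpowers w).index := by
    have h := Subgroup.card_mul_index (Subgroup.zpowers w)
    rw [Nat.card_zpowers, hword, X.card_G, hΩ, hr] at h
    have hi : (Subgroup.zpowers w).index = (N + 1) * ((q - 1) * (q ^ 3 * r)) :=
      Nat.eq_of_mul_eq_mul_left (pow_pos hp.pos a) (h.trans (by ring))
    rw [hi]
    intro hd
    rcases (Nat.Prime.dvd_mul hp).1 hd with h1 | h1
    · rw [hNc] at h1
      exact hp.not_dvd_one ((Nat.dvd_add_right (dvd_mul_of_dvd_right hpc _)).1 h1)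
    rcases (Nat.Prime.dvd_mul hp).1 h1 with h2 | h2
    · exact hp.not_dvd_one (X.cop_q ▸ Nat.dvd_gcd hpq h2)
    rcases (Nat.Prime.dvd_mul hp).1 h2 with h3 | h3
    · have h4 : p ∣ q := hp.dvd_of_dvd_pow h3
      exact hp.not_dvd_one ((Nat.dvd_add_right h4).1 hpq)
    · exact hpr h3
  let P : Sylow p G := hWp.toSylow hidx
  have hP : (P : Subgroup G) = Subgroup.zpowers w := rfl
  -- `N(P)` centralises `P`
  have hfix : ∀ x : G ⧸ HH, w • x = x → x = o := by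
    intro x hwx
    by_contra hx
    exact hpm (hword ▸ X.dvd_of_fix htb hwC hx hwx)
  have hNP : ∀ g ∈ Subgroup.normalizer (Subgroup.zpowers w : Set G), Commute g w := by
    intro g hg
    have hgw : g * w * g⁻¹ ∈ Subgroup.zpowers w :=
      (Subgroup.mem_normalizer_iff.1 hg w).1 (Subgroup.mem_zpowers w)
    have hgH : g ∈ HH := by
      refine X.smul_o.1 (hfix _ ?_)
      obtain ⟨k, hk⟩ : ∃ k : ℤ, w ^ k = g⁻¹ * w * g :=
        Subgroup.mem_zpowers_iff.1 ((Subgroup.mem_normalizer_iff''.1 hg w).1 (Subgroup.mem_zpowers w))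
      have : g⁻¹ * w * g ∈ HH := hk ▸ Subgroup.zpow_mem _ (X.cc_le hwC) k
      calc w • g • o = g • (g⁻¹ * w * g) • o := by simp only [← mul_smul]; group
        _ = g • o := by rw [X.smul_o.2 this]
    obtain ⟨k, hk⟩ : ∃ k : ℕ, e ^ k = g * w * g⁻¹ * w⁻¹ := by
      have : g * w * g⁻¹ * w⁻¹ ∈ Subgroup.zpowers e :=
        (Subgroup.zpowers_le.2 (show w ∈ Subgroup.zpowers e from
          Subgroup.pow_mem _ (Subgroup.mem_zpowers e) r))
          (Subgroup.mul_mem _ hgw (Subgroup.inv_mem _ (Subgroup.mem_zpowers w)))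
      exact Submonoid.mem_powers_iff _ _ |>.1 (mem_powers_iff_mem_zpowers.2 this)
    have hS : g * w * g⁻¹ * w⁻¹ ∈ S := by
      -- powers of `e` are central modulo `S`
      have key : ∀ j : ℕ, g * e ^ j * g⁻¹ * (e ^ j)⁻¹ ∈ S := by
        intro j
        induction j with
        | zero => simpa using S.one_mem
        | succ j ih =>
          have e1 : g * e ^ (j + 1) * g⁻¹ * (e ^ (j + 1))⁻¹ =
              (g * e ^ j * g⁻¹ * (e ^ j)⁻¹) *
                (e ^ j * (g * e * g⁻¹ * e⁻¹) * (e ^ j)⁻¹) := by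
            rw [pow_succ]; group
          rw [e1]
          exact S.mul_mem ih (X.shape.normal _ (Subgroup.pow_mem _ X.shape.e_mem j) _ (X.comm_e hgH))
      exact key r
    rw [← hk] at hS
    rw [(X.shape.pow_e_eq_one X.two_le k).2 (X.shape.pow_mem_S X.two_le hS)] at hk
    exact (mul_inv_eq_iff_eq_mul.1 (mul_inv_eq_one.1 hk.symm) : g * w = w * g)
  have hP' : Subgroup.normalizer ((P : Subgroup G) : Set G) ≤
      Subgroup.centralizer ((P : Subgroup G) : Set G) := by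
    intro g hg
    rw [hP] at hg
    rw [Subgroup.mem_centralizer_iff]
    intro y hy
    rw [SetLike.mem_coe, hP] at hy
    obtain ⟨k, rfl⟩ := Subgroup.mem_zpowers_iff.1 hy
    exact ((hNP g hg).zpow_right k).eq.symm
  -- the normal complement
  set M := (MonoidHom.transferSylow P hP').ker with hM
  have hMp := MonoidHom.not_dvd_card_ker_transferSylow P hP'
  have hcomp := MonoidHom.ker_transferSylow_isComplement' P hP'
  have hinv : ∀ s : G, orderOf s = 2 → s ∈ M := by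
    intro s hs
    rw [hM, MonoidHom.mem_ker, ← orderOf_eq_one_iff]
    refine Nat.eq_one_of_dvd_coprimes (Nat.Coprime.pow_left a ((Nat.coprime_primes hp Nat.prime_two).2 hp2))
      ((orderOf_dvd_natCard _).trans ?_) (hs ▸ orderOf_map_dvd _ s)
    rw [hP, Nat.card_zpowers, hword]
  have hzH : z ∈ HH := X.cc_le (X.shape.Z_le_C X.z_mem)
  obtain ⟨t', ht', ht'H⟩ := exists_not_mem X.isSE
  have hSE := isStronglyEmbedded_inter X.isSE M (fun h => ht'H (h (hinv t' ht'))) X.ord_z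
    (hinv z X.ord_z) hzH
  obtain ⟨u, v, hu1, hv1, huv, hu, hv, huvc⟩ := X.twoInv
  have htwo : ∃ x y : M, x ≠ 1 ∧ y ≠ 1 ∧ x ≠ y ∧ x * x = 1 ∧ y * y = 1 ∧ x * y = y * x :=
    ⟨⟨u, hinv u (orderOf_of_sq hu hu1)⟩, ⟨v, hinv v (orderOf_of_sq hv hv1)⟩,
      fun h => hu1 (congrArg Subtype.val h), fun h => hv1 (congrArg Subtype.val h),
      fun h => huv (congrArg Subtype.val h), Subtype.ext hu, Subtype.ext hv, Subtype.ext huvc⟩
  have hcore : Bender.CoreTwo ((HH).subgroupOf M) := by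
    intro x y hx hy
    have hxZ : ((x : M) : G) ∈ Z := X.mem_Z_of_orderOf x.2 (by rw [Subgroup.orderOf_coe]; exact hx)
    have hyZ : ((y : M) : G) ∈ Z := X.mem_Z_of_orderOf y.2 (by rw [Subgroup.orderOf_coe]; exact hy)
    have h := (X.shape.central _ hxZ _ (X.shape.Z_le_C hyZ)).eq
    have : x * y * x⁻¹ * y⁻¹ = 1 := by
      apply Subtype.ext
      apply Subtype.ext
      show ((x : M) : G) * (y : M) * ((x : M) : G)⁻¹ * ((y : M) : G)⁻¹ = 1
      rw [h, mul_inv_cancel_right, mul_inv_cancel]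
    rw [this]
    exact one_mem _
  have hrep : ∀ x : G ⧸ HH, ∃ g : M, x = ((g : G) : G ⧸ HH) := by
    intro x
    induction x using QuotientGroup.induction_on with | _ g =>
    obtain ⟨⟨⟨μ, hμ⟩, ⟨π, hπ⟩⟩, he⟩ := hcomp.2 g
    refine ⟨⟨μ, hμ⟩, ?_⟩
    rw [eq_comm, QuotientGroup.eq, ← he]
    show μ⁻¹ * (μ * π) ∈ HH
    rw [inv_mul_cancel_left]
    exact (show Subgroup.zpowers w ≤ HH from Subgroup.zpowers_le.2 (X.cc_le hwC)) (hP ▸ hπ)
  have htrM : ∀ x : G ⧸ HH, x ≠ o → ∃ k ∈ M ⊓ HH, k • (t • o) = x := by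
    intro x hx
    obtain ⟨g₁, hg₁⟩ := hrep (t • o)
    obtain ⟨g₂, hg₂⟩ := hrep x
    have hn : ∀ g : M, ((g : G) : G ⧸ HH) ≠ o → g ∉ (HH).subgroupOf M := fun g hg hgH => hg (by
      rw [QuotientGroup.eq, mul_one]; exact Subgroup.inv_mem _ hgH)
    obtain ⟨h, hh, hmem⟩ := Bender.transitive_of_coreTwo hSE htwo hcore g₁ g₂
      (hn g₁ (hg₁ ▸ htb)) (hn g₂ (hg₂ ▸ hx))
    refine ⟨h, ⟨h.2, hh⟩, ?_⟩
    rw [hg₁, hg₂, MulAction.Quotient.smul_mk, smul_eq_mul, eq_comm, QuotientGroup.eq]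
    exact hmem
  have hK := card_of_transitive (M ⊓ HH) inf_le_right htb htrM
  refine hMp ?_
  refine (dvd_mul_of_dvd_right hpc (q ^ 3)).trans ?_
  rw [← hNc]
  exact (Dvd.intro _ hK.symm).trans (Subgroup.card_dvd_of_le inf_le_left)

/-- `N(Z)` has index `q³ + 1`. -/
theorem index_eq : Nat.card (G ⧸ HH) = q ^ 3 + 1 := by
  obtain ⟨t, -, -, htb⟩ := X.exists_point
  have h := X.index_mul htb
  rw [X.card_D_cc htb] at h
  have := Nat.eq_of_mul_eq_mul_right (Nat.succ_pos q) h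
  have : 0 < Nat.card (G ⧸ HH) := Nat.card_pos
  omega

end Ctx

end Cfsg.Agent.PGU3Char
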