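import Cfsg.Agent.Lib.PGU3Char.Shape
import Cfsg.Agent.Lib.Bender.CoreTwo

/-!
# The strongly embedded subgroup in the characterisation of `PGU₃(q)` by involution centralisers

`Ctx q z Z S e` : all centralisers of involutions have the shape of `Shape`, a Sylow 2-subgroup is
not normal, and `Z`, `S`, `e` belong to the involution `z`.

* `Ctx.cent_eq` : all involutions in `Z` have the same centraliser
* `Ctx.isSE` : `N(Z)` is strongly embedded, its involutions lie in `Z`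
* `Ctx.transitive` : it is transitive on the other cosets
* `Ctx.card_H`, `Ctx.card_HK` : orders
-/

set_option autoImplicit false
set_option linter.style.haveILetI false
set_option linter.unusedSectionVars false

namespace Cfsg.Agent.PGU3Char

open Cfsg Cfsg.Agent.Involution
open scoped Pointwise

variable {G : Type*} [Group G] [Finite G]

structure Ctx (q : ℕ) (z : G) (Z S : Subgroup G) (e : G) : Prop where
  four_le : 4 ≤ q
  q_pow : ∃ n : ℕ, q = 2 ^ n
  shapes : ∀ x : G, orderOf x = 2 →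
    ∃ (Z S : Subgroup G) (e : G), Shape q (Subgroup.centralizer {x}) Z S e
  notNormal : ∀ P : Sylow 2 G, ¬ (P : Subgroup G).Normal
  ord_z : orderOf z = 2
  shape : Shape q (Subgroup.centralizer {z}) Z S e

/-- A subgroup transitive on the cosets other than the base one. -/
theorem card_of_transitive {H : Subgroup G} (K : Subgroup G) (hK : K ≤ H) {b : G ⧸ H}
    (hb : b ≠ ((1 : G) : G ⧸ H))
    (htr : ∀ x : G ⧸ H, x ≠ ((1 : G) : G ⧸ H) → ∃ k ∈ K, k • b = x) :
    Nat.card K = (Nat.card (G ⧸ H) - 1) * Nat.card ↥(K ⊓ MulAction.stabilizer G b) := by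
  classical
  haveI := Fintype.ofFinite (G ⧸ H)
  have horb : MulAction.orbit K b = {x | x ≠ ((1 : G) : G ⧸ H)} := by
    ext x
    constructor
    · rintro ⟨k, rfl⟩ h
      refine hb ?_
      have h' : (k : G) • b = ((1 : G) : G ⧸ H) := h
      rw [← inv_smul_eq_iff.2 h'.symm, MulAction.Quotient.smul_mk, smul_eq_mul, mul_one,
        QuotientGroup.eq, mul_one, inv_inv]
      exact hK k.2
    · intro hx
      obtain ⟨k, hk, rfl⟩ := htr x hx
      exact ⟨⟨k, hk⟩, rfl⟩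
  have h1 := Nat.card_congr (MulAction.orbitProdStabilizerEquivGroup K b)
  rw [Nat.card_prod, horb] at h1
  rw [← h1]
  congr 1
  · show Nat.card {x : G ⧸ H // x ≠ ((1 : G) : G ⧸ H)} = _
    rw [Nat.card_eq_fintype_card, Fintype.card_subtype_compl, Fintype.card_subtype_eq,
      Nat.card_eq_fintype_card]
  · exact Nat.card_congr
      { toFun := fun k => ⟨k.1.1, k.1.2, k.2⟩
        invFun := fun k => ⟨⟨k.1, k.2.1⟩, k.2.2⟩
        left_inv := fun k => rfl
        right_inv := fun k => rfl }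

theorem conj_centralizer {g x c : G} (hc : c ∈ Subgroup.centralizer ({x} : Set G)) :
    g * c * g⁻¹ ∈ Subgroup.centralizer ({g * x * g⁻¹} : Set G) := by
  rw [Subgroup.mem_centralizer_singleton_iff] at hc ⊢
  calc g * c * g⁻¹ * (g * x * g⁻¹) = g * (c * x) * g⁻¹ := by group
    _ = g * x * g⁻¹ * (g * c * g⁻¹) := by rw [hc]; group

variable {q : ℕ} {z : G} {Z S : Subgroup G} {e : G}

namespace Ctx

variable (X : Ctx q z Z S e)
include X

local notation "CC" => Subgroup.centralizer (Singleton.singleton z : Set G)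
local notation "HH" => Subgroup.normalizer (Z : Set G)

theorem two_le : 2 ≤ q := le_trans (by norm_num) X.four_le

theorem even_q : Even q := by
  obtain ⟨n, rfl⟩ := X.q_pow
  have := X.four_le
  refine (Nat.even_pow' ?_).2 even_two
  rintro rfl
  omega

theorem cop_q : Nat.Coprime (q + 1) (q - 1) := by
  obtain ⟨l, hl⟩ := X.even_q
  have h1 := X.four_le
  rw [Nat.Coprime, show q + 1 = 2 + (q - 1) by omega, Nat.gcd_add_self_left, Nat.gcd_comm]
  have hodd : ¬ 2 ∣ q - 1 := by omega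
  exact Nat.coprime_comm.1 (Nat.prime_two.coprime_iff_not_dvd.2 hodd)

theorem z_mem : z ∈ Z :=
  X.shape.inv_mem z (mem_centralizer_iff_commute.2 (Commute.refl z)) (mul_self X.ord_z)

theorem ord_of_mem {x : G} (hx : x ∈ Z) (hx1 : x ≠ 1) : orderOf x = 2 :=
  orderOf_of_sq (X.shape.sq_one x hx) hx1

theorem cent_eq {x : G} (hx : x ∈ Z) (hx1 : x ≠ 1) :
    Subgroup.centralizer ({x} : Set G) = CC := by
  obtain ⟨Z', S', e', h'⟩ := X.shapes x (X.ord_of_mem hx hx1)
  refine (Subgroup.eq_of_le_of_card_ge (fun c hc => mem_centralizer_iff_commute.2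
    (X.shape.central x hx c hc).symm) ?_).symm
  rw [h'.card_C, X.shape.card_C]

theorem cc_le : CC ≤ HH := by
  intro c hc
  have key : ∀ c ∈ CC, ∀ x ∈ Z, c * x * c⁻¹ ∈ Z := fun c hc x hx => by
    rw [← (X.shape.central x hx c hc).eq, mul_inv_cancel_right]
    exact hx
  refine Subgroup.mem_normalizer_iff.2 fun x => ⟨key c hc x, fun h => ?_⟩
  have := key c⁻¹ (Subgroup.inv_mem _ hc) _ h
  simpa [mul_assoc] using this

theorem conj_Z {g : G} (hg : g ∈ HH) {x : G} (hx : x ∈ Z) : g * x * g⁻¹ ∈ Z :=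
  (Subgroup.mem_normalizer_iff.1 hg x).1 hx

theorem conj_CC {g : G} (hg : g ∈ HH) {c : G} (hc : c ∈ CC) : g * c * g⁻¹ ∈ CC := by
  have hx : g⁻¹ * z * g ∈ Z := by
    have := X.conj_Z (Subgroup.inv_mem _ hg) X.z_mem
    rwa [inv_inv] at this
  have hx1 : g⁻¹ * z * g ≠ 1 := fun h => ne_one X.ord_z (by
    have := congrArg (fun w => g * w * g⁻¹) h
    simpa [mul_assoc] using this)
  rw [← X.cent_eq hx hx1] at hc
  have := conj_centralizer (g := g) hc
  rwa [show g * (g⁻¹ * z * g) * g⁻¹ = z by group] at this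

theorem conj_S {g : G} (hg : g ∈ HH) {s : G} (hs : s ∈ S) : g * s * g⁻¹ ∈ S := by
  refine X.shape.mem_S X.two_le X.even_q (X.conj_CC hg (X.shape.S_le hs)) ?_
  rw [conj_pow]
  have : orderOf s ∣ q ^ 3 := X.shape.card_S ▸ Subgroup.orderOf_dvd_natCard S hs
  rw [orderOf_dvd_iff_pow_eq_one.1 this, mul_one, mul_inv_cancel]

theorem odd_pred : Odd (q - 1) := by
  obtain ⟨l, hl⟩ := X.even_q
  have := X.four_le
  exact ⟨l - 1, by omega⟩

theorem card_invol : Nat.card {x : Z // x ≠ 1} = q - 1 := by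
  classical
  haveI := Fintype.ofFinite Z
  rw [Nat.card_eq_fintype_card, Fintype.card_subtype_compl, Fintype.card_subtype_eq,
    ← Nat.card_eq_fintype_card, X.shape.card_Z]

theorem inv_mem_Z {s : G} (hs : s ∈ HH) (hss : s * s = 1) : s ∈ Z := by
  have hsi : s⁻¹ = s := inv_eq_of_mul_eq_one_right hss
  let f : {x : Z // x ≠ 1} → {x : Z // x ≠ 1} := fun x =>
    ⟨⟨s * x.1 * s⁻¹, X.conj_Z hs x.1.2⟩, fun h => x.2 (Subtype.ext (by
      have h' : s * x.1 * s⁻¹ = 1 := congrArg Subtype.val h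
      rw [mul_inv_eq_one, mul_eq_left] at h'
      exact h'))⟩
  obtain ⟨x, hx⟩ := Bender.exists_fixed_of_odd (by rw [X.card_invol]; exact X.odd_pred) f (fun x => by
    refine Subtype.ext (Subtype.ext ?_)
    show s * (s * x.1 * s⁻¹) * s⁻¹ = x.1
    rw [hsi]
    calc s * (s * x.1 * s) * s = (s * s) * x.1 * (s * s) := by group
      _ = x.1 := by rw [hss, one_mul, mul_one])
  have hx' : s * x.1 * s⁻¹ = x.1 := congrArg (fun y : {x : Z // x ≠ 1} => (y.1 : G)) hx
  have hs' : s ∈ Subgroup.centralizer ({(x.1 : G)} : Set G) :=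
    mem_centralizer_iff_commute.2 (show s * x.1 = x.1 * s from mul_inv_eq_iff_eq_mul.1 hx')
  rw [X.cent_eq x.1.2 fun h => x.2 (Subtype.ext h)] at hs'
  exact X.shape.inv_mem s hs' hss

theorem mem_Z_of_orderOf {s : G} (hs : s ∈ HH) (h : orderOf s = 2) : s ∈ Z :=
  X.inv_mem_Z hs (mul_self h)

theorem mem_of_conj {g x : G} (hx : x ∈ Z) (hx1 : x ≠ 1) (hg : g * x * g⁻¹ ∈ Z) : g ∈ HH := by
  have key : ∀ g x : G, x ∈ Z → x ≠ 1 → g * x * g⁻¹ ∈ Z → ∀ y ∈ Z, g * y * g⁻¹ ∈ Z := by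
    intro g x hx hx1 hg y hy
    have hy' := conj_centralizer (g := g) (show y ∈ Subgroup.centralizer ({x} : Set G) by
      rw [X.cent_eq hx hx1]; exact X.shape.Z_le_C hy)
    rw [X.cent_eq hg fun h => hx1 (by rwa [mul_inv_eq_one, mul_eq_left] at h)] at hy'
    refine X.shape.inv_mem _ hy' ?_
    calc g * y * g⁻¹ * (g * y * g⁻¹) = g * (y * y) * g⁻¹ := by group
      _ = 1 := by rw [X.shape.sq_one y hy, mul_one, mul_inv_cancel]
  refine Subgroup.mem_normalizer_iff.2 fun y => ⟨key g x hx hx1 hg y, fun hy => ?_⟩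
  have := key g⁻¹ _ hg (fun h => hx1 (by rwa [mul_inv_eq_one, mul_eq_left] at h))
    (by simpa [mul_assoc] using hx) _ hy
  simpa [mul_assoc] using this

theorem isPGroup_S : IsPGroup 2 S := by
  obtain ⟨n, hn⟩ := X.q_pow
  exact IsPGroup.of_card (n := n * 3) (by rw [X.shape.card_S, hn, pow_mul])

theorem sylow_eq (T : Sylow 2 G) (hT : S ≤ T) : S = T := by
  haveI : Fact (Nat.Prime 2) := ⟨Nat.prime_two⟩
  haveI : Nontrivial T.1 :=
    ⟨⟨z, hT (X.shape.Z_le X.z_mem)⟩, 1, fun h => ne_one X.ord_z (congrArg Subtype.val h)⟩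
  haveI := T.isPGroup'.center_nontrivial
  have heven : Even (Nat.card (Subgroup.center T.1)) := by
    obtain ⟨m, hm⟩ := (T.isPGroup'.to_subgroup (Subgroup.center T.1)).exists_card_eq
    rcases m with _ | m
    · have := Finite.one_lt_card (α := Subgroup.center T.1)
      rw [hm] at this; simp at this
    · exact ⟨2 ^ m, by rw [hm, pow_succ]; ring⟩
  obtain ⟨w, hwc, hw⟩ := exists_involution_mem heven
  have hw' : orderOf (w : G) = 2 := by rwa [← Subgroup.orderOf_coe] at hw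
  have hTC : (T : Subgroup G) ≤ Subgroup.centralizer ({(w : G)} : Set G) := fun a ha =>
    mem_centralizer_iff_commute.2 (congrArg Subtype.val (Subgroup.mem_center_iff.1 hwc ⟨a, ha⟩))
  obtain ⟨Z', S', e', h'⟩ := X.shapes _ hw'
  have hd := Subgroup.card_dvd_of_le hTC
  rw [h'.card_C] at hd
  have hcop : Nat.Coprime (Nat.card (T : Subgroup G)) (q + 1) := by
    obtain ⟨m, hm⟩ := T.isPGroup'.exists_card_eq
    rw [hm]
    refine Nat.Coprime.pow_left m (Nat.prime_two.coprime_iff_not_dvd.2 ?_)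
    have := X.even_q
    rw [Nat.even_iff] at this
    omega
  have hd' := hcop.dvd_of_dvd_mul_right hd
  refine Subgroup.eq_of_le_of_card_ge hT ?_
  rw [X.shape.card_S]
  exact Nat.le_of_dvd (pow_pos (by linarith [X.four_le]) 3) hd'

theorem exists_sylow : ∃ T : Sylow 2 G, (T : Subgroup G) = S := by
  haveI : Fact (Nat.Prime 2) := ⟨Nat.prime_two⟩
  obtain ⟨T, hT⟩ := X.isPGroup_S.exists_le_sylow
  exact ⟨T, (X.sylow_eq T hT).symm⟩

theorem HH_ne_top : HH ≠ ⊤ := by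
  intro h
  obtain ⟨T, hT⟩ := X.exists_sylow
  refine X.notNormal T ⟨fun s hs g => ?_⟩
  rw [hT] at hs ⊢
  exact X.conj_S (h ▸ Subgroup.mem_top g) hs

theorem isSE : IsStronglyEmbedded HH := by
  refine isStronglyEmbedded_iff_forall.2 ⟨X.HH_ne_top, ?_, fun g t ht htH hg => ?_⟩
  · rw [even_iff_two_dvd, ← X.ord_z]
    exact Subgroup.orderOf_dvd_natCard _ (X.cc_le (X.shape.Z_le_C X.z_mem))
  · exact X.mem_of_conj (X.mem_Z_of_orderOf htH ht) (ne_one ht)
      (X.mem_Z_of_orderOf hg (by rw [orderOf_conj, ht]))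

theorem twoInv : ∃ x y : G, x ≠ 1 ∧ y ≠ 1 ∧ x ≠ y ∧ x * x = 1 ∧ y * y = 1 ∧ x * y = y * x := by
  classical
  haveI := Fintype.ofFinite {x : Z // x ≠ 1}
  have hc := X.card_invol
  have h4 := X.four_le
  obtain ⟨a, b, hab⟩ := Fintype.exists_pair_of_one_lt_card (α := {x : Z // x ≠ 1})
    (by rw [← Nat.card_eq_fintype_card, hc]; omega)
  exact ⟨a.1, b.1, fun h => a.2 (Subtype.ext h), fun h => b.2 (Subtype.ext h),
    fun h => hab (Subtype.ext (Subtype.ext h)), X.shape.sq_one _ a.1.2, X.shape.sq_one _ b.1.2,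
    (X.shape.central _ a.1.2 _ (X.shape.Z_le_C b.1.2)).eq⟩

theorem coreTwo : Bender.CoreTwo HH := by
  intro s t hs ht
  have h := (X.shape.central _ (X.mem_Z_of_orderOf s.2 hs) _
    (X.shape.Z_le_C (X.mem_Z_of_orderOf t.2 ht))).eq
  have : s * t * s⁻¹ * t⁻¹ = 1 := by
    apply Subtype.ext
    rw [Subgroup.coe_mul, Subgroup.coe_mul, Subgroup.coe_mul, Subgroup.coe_inv, Subgroup.coe_inv, h,
      mul_inv_cancel_right, mul_inv_cancel, Subgroup.coe_one]
  rw [this]
  exact one_mem _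

theorem smul_o {g : G} : g • ((1 : G) : G ⧸ HH) = ((1 : G) : G ⧸ HH) ↔ g ∈ HH :=
  Bender.smul_one_eq

theorem transitive {x y : G ⧸ HH} (hx : x ≠ ((1 : G) : G ⧸ HH)) (hy : y ≠ ((1 : G) : G ⧸ HH)) :
    ∃ h ∈ HH, h • x = y := by
  induction x using QuotientGroup.induction_on with | _ g₁ =>
  induction y using QuotientGroup.induction_on with | _ g₂ =>
  have hn : ∀ g : G, (g : G ⧸ HH) ≠ ((1 : G) : G ⧸ HH) → g ∉ HH := fun g hg hgH => hg (by
    rw [QuotientGroup.eq, mul_one]; exact Subgroup.inv_mem _ hgH)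
  obtain ⟨h, hh, hmem⟩ := Bender.transitive_of_coreTwo X.isSE X.twoInv X.coreTwo g₁ g₂ (hn _ hx)
    (hn _ hy)
  exact ⟨h, hh, (QuotientGroup.eq.2 hmem).symm⟩

theorem trans_Z {b : G ⧸ HH} (hb : b ≠ ((1 : G) : G ⧸ HH)) {x : G} (hx : x ∈ Z) (hx1 : x ≠ 1) :
    ∃ d ∈ HH ⊓ MulAction.stabilizer G b, d * z * d⁻¹ = x := by
  have hfix : ∀ y ∈ Z, y • ((1 : G) : G ⧸ HH) = ((1 : G) : G ⧸ HH) := fun y hy =>
    X.smul_o.2 (X.cc_le (X.shape.Z_le_C hy))
  obtain ⟨d, hd, hdz⟩ := exists_conj_two_point X.isSE hb.symm X.ord_z (hfix z X.z_mem)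
    (X.ord_of_mem hx hx1) (hfix x hx)
  exact ⟨d, ⟨X.smul_o.1 (MulAction.mem_stabilizer_iff.1 hd.1), hd.2⟩, hdz⟩

/-- A subgroup of `H` transitive on the involutions of `Z`. -/
theorem card_HK (K : Subgroup G) (hK : K ≤ HH)
    (htr : ∀ x ∈ Z, x ≠ 1 → ∃ k ∈ K, k * z * k⁻¹ = x) :
    Nat.card K = (q - 1) * Nat.card ↥(K ⊓ CC) := by
  have h := Bender.card_eq_mul_comap (MonoidHom.id G) K {x | x ∈ Z ∧ x ≠ 1}
    (fun k hk s hs => ⟨X.conj_Z (hK hk) hs.1, fun h => hs.2 (by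
      rwa [MonoidHom.id_apply, mul_inv_eq_one, mul_eq_left] at h)⟩)
    (s₀ := z) ⟨X.z_mem, ne_one X.ord_z⟩ (fun s hs => htr s hs.1 hs.2)
  rw [h, Subgroup.comap_id]
  congr 1
  rw [← X.card_invol]
  exact Nat.card_congr
    { toFun := fun x => ⟨⟨x.1, x.2.1⟩, fun h => x.2.2 (congrArg Subtype.val h)⟩
      invFun := fun x => ⟨x.1.1, x.1.2, fun h => x.2 (Subtype.ext h)⟩
      left_inv := fun x => rfl
      right_inv := fun x => rfl }

theorem exists_point : ∃ t : G, orderOf t = 2 ∧ t ∉ HH ∧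
    t • ((1 : G) : G ⧸ HH) ≠ ((1 : G) : G ⧸ HH) := by
  obtain ⟨t, ht, htH⟩ := exists_not_mem X.isSE
  exact ⟨t, ht, htH, fun h => htH (X.smul_o.1 h)⟩

theorem card_H : Nat.card HH = (q - 1) * (q ^ 3 * (q + 1)) := by
  obtain ⟨t, -, -, htb⟩ := X.exists_point
  rw [X.card_HK HH le_rfl fun x hx hx1 => ?_, inf_eq_right.2 X.cc_le, X.shape.card_C]
  obtain ⟨d, hd, hdz⟩ := X.trans_Z htb hx hx1
  exact ⟨d, hd.1, hdz⟩

theorem card_G : Nat.card G = Nat.card (G ⧸ HH) * ((q - 1) * (q ^ 3 * (q + 1))) := by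
  rw [Subgroup.card_eq_card_quotient_mul_card_subgroup HH, X.card_H]

end Ctx

end Cfsg.Agent.PGU3Char
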