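import Cfsg.Agent.EqLemmas
/-!
# The shape of the centraliser of an involution of `PGU₃(q)`, `q` even

* `Shape q C Z S e` : `S` is a normal 2-subgroup of order `q³` of `C`, `Z ≤ S` consists of `1` and
  the involutions of `C`, is central of order `q` and contains all squares of `S`; `e` has order
  `q + 1` and its powers act fixed point freely on `S / Z`
* `Shape.decomp`, `Shape.mem_S`, `Shape.mem_S_of_fix` : consequences
* `Shape.exists_map` : transport along an isomorphism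
-/

set_option autoImplicit false

namespace Cfsg.Agent.PGU3Char

variable {G : Type*} [Group G]

structure Shape (q : ℕ) (C Z S : Subgroup G) (e : G) : Prop where
  Z_le : Z ≤ S
  S_le : S ≤ C
  e_mem : e ∈ C
  card_C : Nat.card C = q ^ 3 * (q + 1)
  card_S : Nat.card S = q ^ 3
  card_Z : Nat.card Z = q
  normal : ∀ c ∈ C, ∀ s ∈ S, c * s * c⁻¹ ∈ S
  central : ∀ z ∈ Z, ∀ c ∈ C, Commute z c
  sq_one : ∀ z ∈ Z, z * z = 1
  inv_mem : ∀ c ∈ C, c * c = 1 → c ∈ Z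
  sq_mem : ∀ s ∈ S, s * s ∈ Z
  pow_e : e ^ (q + 1) = 1
  fpf : ∀ (k : ℕ) (s : G), s ∈ S → s ∉ Z → e ^ k * s * (e ^ k)⁻¹ * s⁻¹ ∈ Z → q + 1 ∣ k

variable {q : ℕ} {C Z S : Subgroup G} {e : G}

namespace Shape

variable (h : Shape q C Z S e)
include h

theorem Z_le_C : Z ≤ C := h.Z_le.trans h.S_le

theorem comm_mem {a b : G} (ha : a ∈ S) (hb : b ∈ S) : a * b * a⁻¹ * b⁻¹ ∈ Z := by
  have hab := h.sq_mem _ (S.mul_mem ha hb)
  have haa := Z.inv_mem (h.sq_mem a ha)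
  have hbb := Z.inv_mem (h.sq_mem b hb)
  have h1 : a * b * a⁻¹ * b⁻¹ = a * b * (a * b) * (b⁻¹ * (a * a)⁻¹ * b) * (b * b)⁻¹ := by group
  rw [h1, show b⁻¹ * (a * a)⁻¹ * b = (a * a)⁻¹ by
    rw [mul_assoc, (h.central _ haa b (h.S_le hb)).eq, inv_mul_cancel_left]]
  exact Z.mul_mem (Z.mul_mem hab haa) hbb

theorem exists_not_mem [Finite G] (hq : 2 ≤ q) : ∃ s ∈ S, s ∉ Z := by
  by_contra hc
  push Not at hc
  have h1 := Subgroup.card_le_of_le (show S ≤ Z from hc)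
  rw [h.card_S, h.card_Z] at h1
  have : q * q ≤ q ^ 3 := by rw [pow_succ, sq]; exact Nat.le_mul_of_pos_right _ (by omega)
  nlinarith

theorem pow_mem_S [Finite G] (hq : 2 ≤ q) {k : ℕ} (hk : e ^ k ∈ S) : q + 1 ∣ k := by
  obtain ⟨s, hs, hsZ⟩ := h.exists_not_mem hq
  exact h.fpf k s hs hsZ (h.comm_mem hk hs)

theorem pow_e_eq_one [Finite G] (hq : 2 ≤ q) (k : ℕ) : e ^ k = 1 ↔ q + 1 ∣ k :=
  ⟨fun hk => h.pow_mem_S hq (hk ▸ S.one_mem), fun ⟨l, hl⟩ => by rw [hl, pow_mul, h.pow_e, one_pow]⟩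

theorem orderOf_e [Finite G] (hq : 2 ≤ q) : orderOf e = q + 1 :=
  (orderOf_eq_iff (Nat.succ_pos q)).2 ⟨h.pow_e, fun k hk hk0 he =>
    absurd (Nat.le_of_dvd hk0 ((h.pow_e_eq_one hq k).1 he)) (by omega)⟩

/-- `C = S ⟨e⟩`. -/
theorem decomp [Finite G] (hq : 2 ≤ q) {c : G} (hc : c ∈ C) : ∃ s ∈ S, ∃ k : ℕ, c = s * e ^ k := by
  let f : S × Fin (q + 1) → C := fun x =>
    ⟨x.1 * e ^ (x.2 : ℕ), C.mul_mem (h.S_le x.1.2) (C.pow_mem h.e_mem _)⟩
  have hinj : Function.Injective f := by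
    rintro ⟨s, i⟩ ⟨s', j⟩ he
    have he' : (s : G) * e ^ (i : ℕ) = s' * e ^ (j : ℕ) := congrArg Subtype.val he
    have key : ∀ i j : ℕ, i ≤ j → ∀ s s' : S, (s : G) * e ^ i = s' * e ^ j → q + 1 ∣ j - i := by
      intro i j hij s s' he
      refine h.pow_mem_S hq ?_
      obtain ⟨l, rfl⟩ := Nat.exists_eq_add_of_le hij
      rw [Nat.add_sub_cancel_left]
      rw [add_comm, pow_add, ← mul_assoc, mul_left_inj] at he
      have := S.mul_mem (S.inv_mem s'.2) s.2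
      rwa [he, inv_mul_cancel_left] at this
    have hij : (i : ℕ) = j := by
      rcases le_total (i : ℕ) j with hle | hle
      · have := Nat.eq_zero_of_dvd_of_lt (key _ _ hle s s' he') (by omega)
        omega
      · have := Nat.eq_zero_of_dvd_of_lt (key _ _ hle s' s he'.symm) (by omega)
        omega
    obtain rfl : i = j := Fin.ext hij
    rw [mul_left_inj] at he'
    exact Prod.ext (Subtype.ext he') rfl
  have hbij := hinj.bijective_of_nat_card_le (by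
    rw [Nat.card_prod, h.card_S, Nat.card_fin, h.card_C])
  obtain ⟨⟨s, k⟩, hk⟩ := hbij.2 ⟨c, hc⟩
  exact ⟨s, s.2, k, (congrArg Subtype.val hk).symm⟩

theorem mul_pow_mem (s : G) (hs : s ∈ S) (k : ℕ) :
    ∀ j, (s * e ^ k) ^ j * (e ^ (k * j))⁻¹ ∈ S := by
  intro j
  induction j with
  | zero => simpa using S.one_mem
  | succ j ih =>
    have h1 := h.normal _ (C.pow_mem h.e_mem (k * j)) s hs
    have e1 : (s * e ^ k) ^ (j + 1) * (e ^ (k * (j + 1)))⁻¹ =
        (s * e ^ k) ^ j * (e ^ (k * j))⁻¹ * (e ^ (k * j) * s * (e ^ (k * j))⁻¹) := by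
      rw [pow_succ, Nat.mul_succ, pow_add]
      group
    rw [e1]
    exact S.mul_mem ih h1

/-- The elements of 2-power order of `C` lie in `S`. -/
theorem mem_S [Finite G] (hq : 2 ≤ q) (hq2 : Even q) {c : G} (hc : c ∈ C)
    (hpow : c ^ q ^ 3 = 1) : c ∈ S := by
  obtain ⟨s, hs, k, rfl⟩ := h.decomp hq hc
  have h1 := h.mul_pow_mem s hs k (q ^ 3)
  rw [hpow, one_mul, inv_mem_iff] at h1
  have h2 := h.pow_mem_S hq h1
  have hcop : Nat.Coprime (q + 1) (q ^ 3) := Nat.Coprime.pow_right 3 (by simp)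
  obtain ⟨l, hl⟩ := hcop.dvd_of_dvd_mul_right h2
  rw [hl, pow_mul, h.pow_e, one_pow, mul_one]
  exact hs

/-- An element of `C` centralising `S / Z` lies in `S`. -/
theorem mem_S_of_fix [Finite G] (hq : 2 ≤ q) {c : G} (hc : c ∈ C)
    (hfix : ∀ s ∈ S, c * s * c⁻¹ * s⁻¹ ∈ Z) : c ∈ S := by
  obtain ⟨s, hs, k, rfl⟩ := h.decomp hq hc
  obtain ⟨v, hv, hvZ⟩ := h.exists_not_mem hq
  have h1 := hfix v hv
  set w := e ^ k * v * (e ^ k)⁻¹
  have hw : w ∈ S := h.normal _ (C.pow_mem h.e_mem k) v hv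
  have e1 : w * v⁻¹ = (s * w * s⁻¹ * w⁻¹)⁻¹ * (s * e ^ k * v * (s * e ^ k)⁻¹ * v⁻¹) := by
    simp only [w]
    group
  have h2 : e ^ k * v * (e ^ k)⁻¹ * v⁻¹ ∈ Z := by
    show w * v⁻¹ ∈ Z
    rw [e1]
    exact Z.mul_mem (Z.inv_mem (h.comm_mem hs hw)) h1
  obtain ⟨l, hl⟩ := h.fpf k v hv hvZ h2
  rw [hl, pow_mul, h.pow_e, one_pow, mul_one]
  exact hs

/-- Transport along an isomorphism. -/
theorem exists_map {G' : Type*} [Group G'] {C' : Subgroup G'} (f : C ≃* C') :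
    ∃ (Z' S' : Subgroup G') (e' : G'), Shape q C' Z' S' e' := by
  let φ : C →* G' := C'.subtype.comp f.toMonoidHom
  have hφ : Function.Injective φ := Subtype.val_injective.comp f.injective
  have hcard : ∀ K : Subgroup G, K ≤ C → Nat.card ((K.subgroupOf C).map φ) = Nat.card K := fun K hK =>
    (Nat.card_congr ((K.subgroupOf C).equivMapOfInjective φ hφ).toEquiv).symm.trans
      (Nat.card_congr (Subgroup.subgroupOfEquivOfLe hK).toEquiv)
  have hmem : ∀ K : Subgroup G, ∀ x : C, φ x ∈ (K.subgroupOf C).map φ ↔ (x : G) ∈ K := fun K x => by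
    rw [Subgroup.mem_map_iff_mem hφ, Subgroup.mem_subgroupOf]
  have hsur : ∀ c ∈ C', ∃ x : C, φ x = c := fun c hc => ⟨f.symm ⟨c, hc⟩, by
    show ((f (f.symm ⟨c, hc⟩) : C') : G') = c
    rw [f.apply_symm_apply]⟩
  refine ⟨(Z.subgroupOf C).map φ, (S.subgroupOf C).map φ, φ ⟨e, h.e_mem⟩,
    ⟨Subgroup.map_mono fun x hx => h.Z_le hx, ?_, (f _).2, ?_, by rw [hcard S h.S_le, h.card_S],
      by rw [hcard Z h.Z_le_C, h.card_Z], ?_, ?_, ?_, ?_, ?_, ?_, ?_⟩⟩
  · rintro _ ⟨x, -, rfl⟩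
    exact (f x).2
  · rw [← Nat.card_congr f.toEquiv, h.card_C]
  · intro c hc s hs
    obtain ⟨x, rfl⟩ := hsur c hc
    obtain ⟨y, hy, rfl⟩ := hs
    rw [← map_inv, ← map_mul, ← map_mul, hmem]
    exact h.normal x x.2 y hy
  · rintro _ ⟨y, hy, rfl⟩ c hc
    obtain ⟨x, rfl⟩ := hsur c hc
    exact Commute.map (Subtype.ext (h.central y hy x x.2) : Commute y x) φ
  · rintro _ ⟨y, hy, rfl⟩
    rw [← map_mul, ← map_one φ, hφ.eq_iff]
    exact Subtype.ext (h.sq_one y hy)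
  · intro c hc hcc
    obtain ⟨x, rfl⟩ := hsur c hc
    rw [← map_mul, ← map_one φ, hφ.eq_iff] at hcc
    rw [hmem]
    exact h.inv_mem x x.2 (congrArg Subtype.val hcc)
  · rintro _ ⟨y, hy, rfl⟩
    rw [← map_mul, hmem]
    exact h.sq_mem y hy
  · rw [← map_pow, ← map_one φ]
    exact congrArg φ (Subtype.ext h.pow_e)
  · rintro k _ ⟨y, hy, rfl⟩ hyZ hmz
    rw [hmem] at hyZ
    rw [← map_pow, ← map_mul, ← map_inv, ← map_mul, ← map_inv, ← map_mul, hmem] at hmz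
    exact h.fpf k y hy hyZ hmz

end Shape

/-- The action on a section `S / Z` of a subgroup normalising `S` and `Z`. -/
noncomputable def secAct (H S Z : Subgroup G) [(Z.subgroupOf S).Normal]
    (hS : ∀ g ∈ H, ∀ s ∈ S, g * s * g⁻¹ ∈ S) (hZ : ∀ g ∈ H, ∀ z ∈ Z, g * z * g⁻¹ ∈ Z) :
    H →* AddMonoid.End (Additive (S ⧸ Z.subgroupOf S)) where
  toFun g := MonoidHom.toAdditive (QuotientGroup.map (Z.subgroupOf S) (Z.subgroupOf S)
    (MonoidHom.mk' (fun s : S => (⟨g * s * (g : G)⁻¹, hS g g.2 s s.2⟩ : S))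
      fun s s' => Subtype.ext (by
        show (g : G) * (s * s') * (g : G)⁻¹ = g * s * (g : G)⁻¹ * (g * s' * (g : G)⁻¹)
        group))
    fun s hs => hZ g g.2 s hs)
  map_one' := DFunLike.ext _ _ fun v => by
    induction v using Additive.rec with | _ v =>
    induction v using QuotientGroup.induction_on with | _ s =>
    show Additive.ofMul (QuotientGroup.mk _) = Additive.ofMul (QuotientGroup.mk s)
    congr 2
    exact Subtype.ext (by simp)
  map_mul' g g' := DFunLike.ext _ _ fun v => by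
    induction v using Additive.rec with | _ v =>
    induction v using QuotientGroup.induction_on with | _ s =>
    show Additive.ofMul (QuotientGroup.mk _) = Additive.ofMul (QuotientGroup.mk _)
    congr 2
    exact Subtype.ext (by
      show ((g * g' : H) : G) * s * ((g * g' : H) : G)⁻¹ = g * (g' * s * (g' : G)⁻¹) * (g : G)⁻¹
      rw [Subgroup.coe_mul]
      group)

theorem secAct_apply {H S Z : Subgroup G} [(Z.subgroupOf S).Normal]
    (hS : ∀ g ∈ H, ∀ s ∈ S, g * s * g⁻¹ ∈ S) (hZ : ∀ g ∈ H, ∀ z ∈ Z, g * z * g⁻¹ ∈ Z)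
    (g : H) (s : S) :
    secAct H S Z hS hZ g (Additive.ofMul (QuotientGroup.mk s)) =
      Additive.ofMul (QuotientGroup.mk (⟨g * s * (g : G)⁻¹, hS g g.2 s s.2⟩ : S)) := rfl

/-- `g` fixes the class of `s` iff `[g, s] ∈ Z`, for a central `Z`. -/
theorem secAct_eq_iff {H S Z : Subgroup G} [(Z.subgroupOf S).Normal]
    (hS : ∀ g ∈ H, ∀ s ∈ S, g * s * g⁻¹ ∈ S) (hZ : ∀ g ∈ H, ∀ z ∈ Z, g * z * g⁻¹ ∈ Z)
    (g : H) (s : S) :
    secAct H S Z hS hZ g (Additive.ofMul (QuotientGroup.mk s)) = Additive.ofMul (QuotientGroup.mk s) ↔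
      (g : G) * s * (g : G)⁻¹ * (s : G)⁻¹ ∈ Z := by
  rw [secAct_apply, Additive.ofMul.injective.eq_iff, QuotientGroup.eq_iff_div_mem,
    Subgroup.mem_subgroupOf]
  rw [div_eq_mul_inv, Subgroup.coe_mul, Subgroup.coe_inv]

end Cfsg.Agent.PGU3Char
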